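import Cfsg.Agent.SB.Par.Bt
import Cfsg.Agent.H938.InstC
import Cfsg.Agent.H938.Rank
import Cfsg.Agent.KFacts.RgdChevCoord
import Cfsg.Agent.Mrg.ParSys.Fam.D4
import Cfsg.Agent.ChevalleyStructure.B2Sp4

/-!
# S5765, parabolic case: the families with a root group datum (helper64)

`rowP_of_lieFilt` : `RowP p K` for the groups of Lie type other than `²F₄(q)` and the groups of rank one.
-/

set_option autoImplicit false
set_option linter.unusedSectionVars false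

namespace Cfsg.Agent.SB.Par

open CoxeterSystem Cfsg.Agent.ChevalleyStructure.CoxeterGeom Cfsg.Agent.Tits.Roots
  Cfsg.Agent.Nodes.Reps Cfsg.Agent.Nodes.BNOf Cfsg.Agent.Nodes.Bruhat Cfsg.Agent.KFacts.RgdAut
  Cfsg.Agent.KFacts.RgdField Cfsg.Agent.H786.FC Cfsg.Agent.KFacts.RgdFilt Cfsg.Agent.Omega.ML.Ex.Typ
  Cfsg.Agent.KFacts.RgdLieCharP

theorem rowP_of_equiv {p : ℕ} {K K' : Type*} [Group K] [Group K'] (e : K ≃* K') (h : RowP p K') : RowP p K := by
  intro S hS hm hn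
  have hφ : Function.Injective (MulAut.congr e).toMonoidHom := (MulAut.congr e).injective
  refine Good.of_map _ hφ ?_
  rw [congr_innG]
  refine h _ (Group.isSolvable_of_surjective ((MulAut.congr e).toMonoidHom.subgroupMap_surjective S)) ?_ fun h1 => ?_
  · rw [← congr_innG e]
    exact hm.map _ hφ
  · rw [← congr_innG e] at h1
    exact hn (h1.of_map _ hφ)

theorem noncomm_of_equiv {K K' : Type*} [Group K] [Group K'] (e : K ≃* K') (h : ¬ IsMulCommutative K) :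
    ¬ IsMulCommutative K' := fun h1 => h ⟨⟨fun a b => e.injective (by rw [map_mul, map_mul, h1.is_comm.comm])⟩⟩

section
variable {Y : Type*} [Group Y] [Finite Y] {p : ℕ} [Fact p.Prime]

theorem irr_of_span {F : Type*} [Field F] {T P : Subgroup Y} (hp : IsPGroup p P) (hP : P ≠ ⊥) {x : F → Y}
    (mem : ∀ y, y ∈ P ↔ ∃ a, x a = y) (add : ∀ a b, x (a + b) = x a * x b)
    (span : ∀ S : AddSubgroup F, (∀ c, (∃ t ∈ T, ∀ a, t * x a * t⁻¹ = x (c * a)) → c ∈ S) → S = ⊤) : Irr p T P := by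
  rintro β ⟨k, hk⟩ hβ hT y hy
  obtain ⟨y₀, hy₀, hy1, e⟩ := exists_fixed hk hβ hp hP
  obtain ⟨a₀, rfl⟩ := (mem _).1 hy₀
  obtain ⟨a, rfl⟩ := (mem _).1 hy
  have zero : x 0 = 1 := by
    have := add 0 0
    rwa [add_zero, left_eq_mul] at this
  have ha : a₀ ≠ 0 := fun h0 => hy1 (by rw [h0, zero])
  let S : AddSubgroup F :=
    { carrier := {c | β (x (c * a₀)) = x (c * a₀)}
      zero_mem' := by simp [zero]
      add_mem' := fun {a b} h1 h2 => by
        simp only [Set.mem_ofPred_eq] at h1 h2 ⊢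
        rw [add_mul, add, map_mul, h1, h2]
      neg_mem' := fun {a} h1 => by
        simp only [Set.mem_ofPred_eq] at h1 ⊢
        have h2 : x (-a * a₀) = (x (a * a₀))⁻¹ := by
          rw [eq_inv_iff_mul_eq_one, ← add, neg_mul, neg_add_cancel, zero]
        rw [h2, map_inv, h1] }
  have h1 : a * a₀⁻¹ ∈ S := by
    rw [span S ?_]
    · trivial
    · rintro c ⟨t, ht, h2⟩
      change β _ = _
      rw [← h2, map_mul, map_mul, map_inv, hT t ht, e]
  change β _ = _ at h1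
  rwa [inv_mul_cancel_right₀ ha] at h1

theorem irr_of_coord {F : Type*} [Field F] {T P : Subgroup Y} (hp : IsPGroup p P) {x : F → Y} {χ : Y → F}
    (C : Coord T P x χ) : Irr p T P := by
  refine irr_of_span hp (fun h => C.ne_one one_ne_zero ?_) C.mem C.add fun S hS => ?_
  · rw [← Subgroup.mem_bot, ← h, C.mem]
    exact ⟨1, rfl⟩
  · rw [eq_top_iff, ← C.span, AddSubgroup.closure_le]
    rintro _ ⟨t, ht, rfl⟩
    exact hS _ ⟨t, ht, C.act t ht⟩

variable [IsSimpleGroup Y] (hY : ¬ IsMulCommutative Y) (hF : HasFilt p Y)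
include hY hF

theorem rowP_of_three {l : ℕ} {M : CoxeterMatrix (Fin l)} (hT : HasRGDT p M Y) {i j : Fin l} (h3 : M i j = 3) :
    RowP p Y := by
  obtain ⟨A, h, T, n, X, hW, R, hG⟩ := hT
  exact rowP_of_rgd hY (bti_of_filt hF) R hG fun h1 => absurd h3 (h1 i j)

theorem rowP_of_rank {l : ℕ} {M : CoxeterMatrix (Fin l)} (hT : HasRGDT p M Y) (h3 : 3 ≤ l) : RowP p Y := by
  obtain ⟨A, h, T, n, X, hW, R, hG⟩ := hT
  refine rowP_of_rgd hY (bti_of_filt hF) R hG fun h1 => ?_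
  obtain ⟨b, hb⟩ := two_of_lf (conn_of_simple R hG (center_bot hY)) (lf_of_no_three M.toCoxeterSystem h h1)
    ⟨0, by omega⟩
  have h2 := hb ⟨1, by omega⟩
  have h4 := hb ⟨2, by omega⟩
  simp only [Fin.ext_iff] at h2 h4
  omega

end

section Witt

open Cfsg.Agent.Nodes Cfsg.Agent.Nodes.TypeC Cfsg.Agent.Nodes.WittAll Cfsg.Agent.Nodes.WittU Cfsg.Agent.Nodes.WittInst
  Cfsg.Agent.Nodes.WittRoot Cfsg.Agent.Nodes.WittRGD
  Cfsg.Agent.TitsThree Cfsg.Agent.TitsThree.Siegel Cfsg.Agent.TitsThree.SiegelGen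
  Cfsg.Agent.TitsThree.WittFrame Cfsg.Agent.TitsThree.WBridge Cfsg.Agent.TitsThree.WittWeyl
  Cfsg.Agent.TitsThree.FrameCN Cfsg.Agent.TitsThree.LineBorel

variable {F : Type*} [Field F] {V : Type*} [AddCommGroup V] [Module F V] {H : HForm F V} {n : ℕ}
  {Fr : Frame H (Fin n)} {K : Type*} [Group K] (M : Model Fr K)

theorem rowP_C [Finite K] [IsSimpleGroup K] (hK : ¬ IsMulCommutative K) {p : ℕ} (hA : AmbT Fr p M.I) [Finite V]
    [Fact p.Prime] [CharP F p] {p0 : Fr.Adm} (hp0 : p0.c ≠ 0) (hn : 1 < n) [Finite F] (hF : ¬ (Nat.card F).Prime) :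
    RowP p K := by
  have := Nodes.TypeC.finite_W (CoxeterMatrix.B n).toCoxeterSystem
  have R := rgdC_model M hA hp0 (CoxeterMatrix.B n).toCoxeterSystem
  set i : Fin n := ⟨0, by omega⟩ with hi
  have hi' : (i : ℕ) + 1 < n := hn
  have hne : (i, true).1 ≠ (nx i).1 := by
    unfold nx
    rw [dif_pos hi']
    simp [Fin.ext_iff]
  have mem : ∀ y, y ∈ WittModel.X M (sr i) ↔ ∃ a, M.X (i, true) (nx i) a = y := by
    intro y
    rw [WittModel.mem_X, rg_sr, PG_ne _ hne]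
    exact ⟨fun ⟨_, _, ⟨a, ha⟩, e⟩ => ⟨a, by subst ha; exact e.symm⟩, fun ⟨a, e⟩ => ⟨_, M.hX _ _ a, ⟨a, rfl⟩, e.symm⟩⟩
  refine rowP_of_rgd hK (bti_of_filt (KFacts.RgdFiltClass.hasFilt_C M hA hp0 (by omega))) R
    (WittModel.G1_eq_top _ (by omega) _) fun _ => ⟨i, ?_, fun _ _ => Or.inr ?_⟩
  · refine irr_of_span (R.pgrp i) (X_ne_bot R (isRoot_sr _ _ i)) mem
      (fun a b => (H938.mx M (i, true) (nx i)).map_mul (Multiplicative.ofAdd a) (Multiplicative.ofAdd b))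
      fun S hS => KFacts.RgdChevCoord.closure_sq fun c hc => hS _ ?_
    have h1 := WittAll.tor_of_mono (WittAll.nX_mem hA (i, true) (nx i) c) (WittAll.nX_mem hA (i, true) (nx i) 1)
      (mono_nX hi' hc) (mono_nX hi' one_ne_zero)
    refine ⟨M.φ ⟨_, h1.1⟩, ⟨⟨_, h1.1⟩, h1, rfl⟩, fun a => ?_⟩
    unfold Model.X
    rw [← map_mul, ← map_inv, ← map_mul]
    congr 1
    apply Subtype.ext
    have h2 := nX_conj_X_neg Fr hne one_ne_zero (-a)
    have h3 := nX_conj_X_neg Fr hne hc (-a)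
    rw [one_pow, one_mul, _root_.neg_neg] at h2
    rw [mul_neg, _root_.neg_neg] at h3
    change nX Fr _ _ c * (nX Fr _ _ 1)⁻¹ * Fr.X _ _ a * (nX Fr _ _ c * (nX Fr _ _ 1)⁻¹)⁻¹ = Fr.X _ _ (c ^ 2 * a)
    rw [← h2, ← h3]
    group
  · refine H938.not_isSolvable_LJ_one Fact.out R (E := (H938.mx M (i, true) (nx i)).range) ?_ ?_
      (H938.not_isCyclic_range _ (H938.mx_injective M hne) hF)
    · rintro _ ⟨a, rfl⟩
      exact (mem _).2 ⟨a.toAdd, rfl⟩
    · rintro _ ⟨a, rfl⟩ _ ⟨b, rfl⟩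
      rw [← map_mul, ← map_mul, mul_comm]

theorem rowP_PSU {F : Type*} [Field F] [Fintype F] {q N : ℕ} (hF : Fintype.card F = q ^ 2) (hN : 4 ≤ N) {p : ℕ}
    [Fact p.Prime] [CharP F p] [IsSimpleGroup (PSU N F q)] (hK : ¬ IsMulCommutative (PSU N F q)) :
    RowP p (PSU N F q) := by
  obtain ⟨m, hm⟩ : ∃ m, N = 2 * m ∨ N = 2 * m + 1 := ⟨N / 2, by omega⟩
  obtain ⟨W, -⟩ := exists_wframe hF hm
  obtain ⟨p0, hp0, -⟩ := exists_adm hF W
  have : Finite (PSU N F q) := Quotient.finite _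
  refine rowP_C (KInstU.model hF (by omega) W) hK (AmbT.of_amb (amb_U hF W) p) hp0 (by omega) ?_
  rw [Nat.card_eq_fintype_card, hF]
  exact Nat.Prime.not_prime_pow le_rfl

end Witt

section Chev

open Cfsg.Lie Cfsg.Agent.Nodes.RGDChev Cfsg.Agent.ChevalleyStructure Cfsg.Agent.ChevalleyStructure.CoxeterGeomTypes

theorem rowP_group {D : ChevalleyDatum} {l : ℕ} {M : CoxeterMatrix (Fin l)} (hp : IsType D l M) (hl : 0 < l)
    (F : Type) [Field F] [Finite F] (p : ℕ) [Fact p.Prime] [CharP F p] {K : Type*} [Group K] [Finite K]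
    [IsSimpleGroup K] (hK : ¬ IsMulCommutative K) (e : K ≃* D.group F) : RowP p K := by
  have := e.symm.isSimpleGroup
  have : Finite (D.group F) := Finite.of_equiv K e.toEquiv
  have := finite_W hp M.toCoxeterSystem
  have R := rgd (K := F) hp M.toCoxeterSystem p
  have h1 : ∀ i, Irr p _ _ := fun i => irr_of_coord (R.pgrp i)
    ((KFacts.RgdChevCoord.coords (K := F) hp M.toCoxeterSystem p).coord _ (isRoot_sr _ _ i))
  exact rowP_of_equiv e (rowP_of_rgd (noncomm_of_equiv e hK) (bti_of_filt (KFacts.RgdFiltChev.hasFilt_group hp F p)) R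
    (G1_eq_top hp _) fun _ => ⟨⟨0, hl⟩, h1 _, fun j _ => Or.inl (h1 j)⟩)

theorem rowP_twD4 {F : Type} [Field F] [Fintype F] {q : ℕ} (hq : IsPrimePow q) (hF : Fintype.card F = q ^ 3)
    (p : ℕ) [Fact p.Prime] [CharP F p] {K : Type*} [Group K] [Finite K]
    [IsSimpleGroup K] (hK : ¬ IsMulCommutative K) (e : K ≃* twistedD4 F q) : RowP p K := by
  have := e.symm.isSimpleGroup
  have : Finite (twistedD4 F q) := Finite.of_equiv K e.toEquiv
  obtain ⟨φ, hφ⟩ := D4Fixed.exists_frob hq hF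
  have := Nodes.RGDFold.finite_W (hp := Nodes.RGDTwD4.hp) CoxeterMatrix.G₂.toCoxeterSystem Nodes.RGDTwD4.isCartan
    Nodes.RGDTwD4.foldData
  have R := Nodes.RGDTwD4.rgd CoxeterMatrix.G₂.toCoxeterSystem hF hφ p
  have h1 : ∀ i, Irr p _ _ := fun i => irr_of_coord (R.pgrp i) (KFacts.TwDFour.Out.coordD hφ hF i)
  have hfil : HasFilt p (twistedD4 F q) := hasFilt_of_lie (Or.inr (Or.inr (Or.inr (Or.inr (Or.inr (Or.inr (Or.inr
    ⟨F, _, _, ‹_›, q, hq, Or.inr ⟨hF, ⟨MulEquiv.refl _⟩⟩⟩)))))))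
  exact rowP_of_equiv e (rowP_of_rgd (noncomm_of_equiv e hK) (bti_of_filt hfil) R
    (Nodes.RGDTwD4.G1_eq_top _ hF hφ) fun _ => ⟨0, h1 _, fun j _ => Or.inl (h1 j)⟩)

/-- **The parabolic case, all families but `²F₄(q)`.** -/
theorem rowP_of_lieFilt {p : ℕ} {K : Type} [Group K] [Finite K] [IsSimpleGroup K] (hK : ¬ IsMulCommutative K)
    (h1 : ¬ RankOne K) (h : IsLieFilt p K) : RowP p K := by
  have hF := hasFilt_of_lie h
  rcases h with h | h | h | h | h | h | h | h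
  · obtain ⟨F, i1, i2, _, n, hn, h2, ⟨e⟩⟩ := h
    have : Fact p.Prime := ⟨CharP.char_is_prime F p⟩
    rcases Nat.eq_or_lt_of_le hn with rfl | h3
    · exact absurd (Or.inl ⟨F, i1, i2, h2 rfl, ⟨e⟩⟩) h1
    · obtain ⟨n, rfl⟩ : ∃ k, n = k + 1 := ⟨n - 1, by omega⟩
      refine rowP_of_three hK hF ((typ_PSL n).of_equiv e.symm) (i := ⟨0, by omega⟩) (j := ⟨1, by omega⟩) ?_
      change LieRecognition.CoxClass.mA 0 1 = 3
      unfold LieRecognition.CoxClass.mA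
      norm_num
  · obtain ⟨F, _, _, _, m, hm, -, ⟨e⟩⟩ := h
    have : Fact p.Prime := ⟨CharP.char_is_prime F p⟩
    rcases Nat.eq_or_lt_of_le hm with rfl | h3
    · obtain ⟨e'⟩ := B2Sp4.chevB2_equiv_PSp F
      exact rowP_group (l := 2) (M := CoxeterMatrix.B 2) (by simp [IsType, typeList]) two_pos F p hK (e.trans e'.symm)
    · exact rowP_of_rank hK hF ((typ_PSp (by omega)).of_equiv e.symm) h3
  · obtain ⟨F, i1, i2, _, n, q, hq, hn, h2, ⟨e⟩⟩ := h
    have : Fact p.Prime := ⟨CharP.char_is_prime F p⟩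
    rcases Nat.eq_or_lt_of_le hn with rfl | h3
    · exact absurd (Or.inr (Or.inl ⟨F, i1, i2, q, hq, fun h3 => h2 ⟨rfl, h3⟩, ⟨e⟩⟩)) h1
    · have := e.symm.isSimpleGroup
      exact rowP_of_equiv e (rowP_PSU hq h3 (noncomm_of_equiv e hK))
  · obtain ⟨F, _, _, _, m, hm, hodd, ⟨e⟩⟩ := h
    have : Fact p.Prime := ⟨CharP.char_is_prime F p⟩
    have h2 : (2 : F) ≠ 0 := by
      intro h2
      have h3 : CharP F 2 := CharTwo.of_one_ne_zero_of_two_eq_zero one_ne_zero h2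
      obtain ⟨k, -, hk⟩ := FiniteField.card F 2
      rw [hk] at hodd
      exact (Nat.not_odd_iff_even.2 ((even_two).pow_of_ne_zero k.ne_zero)) hodd
    exact rowP_of_rank hK hF ((H938.typ_PO_odd h2 (by omega)).of_equiv e.symm) hm
  · obtain ⟨F, _, _, _, m, hm, ⟨e⟩⟩ := h
    have : Fact p.Prime := ⟨CharP.char_is_prime F p⟩
    obtain ⟨n, rfl⟩ : ∃ n, m = n + 3 := ⟨m - 3, by omega⟩
    exact rowP_of_rank hK hF ((typ_PO_plus n).of_equiv e.symm) (by omega)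
  · obtain ⟨F, _, _, _, m, a, b, hm, hab, ⟨e⟩⟩ := h
    have : Fact p.Prime := ⟨CharP.char_is_prime F p⟩
    exact rowP_of_rank hK hF ((typ_PO_minus hab (by omega)).of_equiv e.symm) (by omega)
  · obtain ⟨F, _, _, _, ⟨-, ⟨e⟩⟩ | ⟨⟨e⟩⟩ | ⟨⟨e⟩⟩ | ⟨⟨e⟩⟩ | ⟨⟨e⟩⟩⟩ := h <;>
      have : Fact p.Prime := ⟨CharP.char_is_prime F p⟩
    · exact rowP_group (l := 2) (M := CoxeterMatrix.G₂) (by simp [IsType, typeList]) (by norm_num) F p hK e
    · exact rowP_group (l := 4) (M := CoxeterMatrix.F₄) (by simp [IsType, typeList]) (by norm_num) F p hK e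
    · exact rowP_group (l := 6) (M := CoxeterMatrix.E₆) (by simp [IsType, typeList]) (by norm_num) F p hK e
    · exact rowP_group (l := 7) (M := CoxeterMatrix.E₇) (by simp [IsType, typeList]) (by norm_num) F p hK e
    · exact rowP_group (l := 8) (M := CoxeterMatrix.E₈) (by simp [IsType, typeList]) (by norm_num) F p hK e
  · obtain ⟨F, _, _, _, q, hq, ⟨hc, ⟨e⟩⟩ | ⟨hc, ⟨e⟩⟩⟩ := h <;> have : Fact p.Prime := ⟨CharP.char_is_prime F p⟩
    · exact rowP_of_rank hK hF ((typ_twE6 hq hc p).of_equiv e.symm) (by norm_num)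
    · exact rowP_twD4 hq hc p hK e

end Chev

end Cfsg.Agent.SB.Par
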