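import Cfsg.Agent.SB.Par.TwF

/-!
# S5765, the parabolic case (helper64)
-/

set_option autoImplicit false

namespace Cfsg.Agent.SB.Par

/-- **The parabolic case.** -/
theorem boxPar : BoxPar := by
  intro p K _ _ _ hK h1 h
  rcases h with h | h | h | h | h | h | h | h | ⟨-, h⟩ | ⟨rfl, h⟩ | ⟨-, h⟩
  · exact rowP_of_lieFilt hK h1 (.inl h)
  · exact rowP_of_lieFilt hK h1 (.inr (.inl h))
  · exact rowP_of_lieFilt hK h1 (.inr (.inr (.inl h)))
  · exact rowP_of_lieFilt hK h1 (.inr (.inr (.inr (.inl h))))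
  · exact rowP_of_lieFilt hK h1 (.inr (.inr (.inr (.inr (.inl h)))))
  · exact rowP_of_lieFilt hK h1 (.inr (.inr (.inr (.inr (.inr (.inl h))))))
  · exact rowP_of_lieFilt hK h1 (.inr (.inr (.inr (.inr (.inr (.inr (.inl h)))))))
  · exact rowP_of_lieFilt hK h1 (.inr (.inr (.inr (.inr (.inr (.inr (.inr h)))))))
  · exact absurd (.inr (.inr (.inl h))) h1
  · exact rowP_2F4 hK h
  · exact absurd (.inr (.inr (.inr h))) h1

end Cfsg.Agent.SB.Par
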