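import Cfsg.Agent.SB.Par.Two
import Cfsg.Agent.SB.Split
import Cfsg.Agent.KFacts.RgdLieCharP

/-!
# S5765, parabolic case: Borel–Tits (helper64)

* `BTI p Y` : the theorem of Borel and Tits without root data; `bti_of_filt`;
* `exists_borel` : `S` contains the normaliser in `Inn Y` of a Sylow `p`-subgroup;
* `rowP_of_rgd` : `RowP p Y` from a root group datum.
-/

set_option autoImplicit false
set_option linter.unusedSectionVars false

namespace Cfsg.Agent.SB.Par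

open CoxeterSystem Cfsg.Agent.ChevalleyStructure.CoxeterGeom Cfsg.Agent.Tits.Roots Cfsg.Agent.Tits.Core
  Cfsg.Agent.Tits.Exchange Cfsg.Agent.Nodes.Reps Cfsg.Agent.Nodes.BNOf Cfsg.Agent.Nodes.StabComb
  Cfsg.Agent.Nodes.Bruhat Cfsg.Agent.Nodes.OppDec Cfsg.Agent.Nodes.LeviDec Cfsg.Agent.Nodes.NormalForm
  Cfsg.Agent.KFacts.RgdOpp Cfsg.Agent.KFacts.RgdAut Cfsg.Agent.KFacts.RgdDiag Cfsg.Agent.KFacts.RgdRigid
  Cfsg.Agent.KFacts.RgdVJ Cfsg.Agent.KFacts.RgdCharP Cfsg.Agent.H786.FC Cfsg.Agent.KFacts.RgdFilt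

variable {I W Y : Type*} [Fintype I] [DecidableEq I] [Group W] [Group Y] {M : CoxeterMatrix I}
  {cs : CoxeterSystem M W} {A : I → I → ℤ} {h : IsCartan M A} {p : ℕ} {T : Subgroup Y} {n : I → Y}
  {X : (I → ℤ) → Subgroup Y}

/-- a maximal `p`-subgroup -/
def MaxP (p : ℕ) (U : Subgroup Y) : Prop := IsPGroup p U ∧ ∀ Q : Subgroup Y, IsPGroup p Q → U ≤ Q → Q = U

/-- Borel–Tits -/
def BTI (p : ℕ) (Y : Type*) [Group Y] : Prop :=
  ∀ K : Subgroup Y, IsPGroup p K → K ≠ ⊥ → ∃ V : Subgroup Y, IsPGroup p V ∧ K ≤ V ∧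
    Subgroup.normalizer (K : Set Y) ≤ Subgroup.normalizer (V : Set Y) ∧
      ∃ U : Subgroup Y, MaxP p U ∧ Subgroup.normalizer (U : Set Y) ≤ Subgroup.normalizer (V : Set Y)

theorem MaxP.cj {U : Subgroup Y} (hU : MaxP p U) (g : Y) : MaxP p (cj g U) := by
  refine ⟨hU.1.map _, fun Q hQ hle => ?_⟩
  rw [← hU.2 (Nodes.Reps.cj g⁻¹ Q) (hQ.map _) (by rw [← cj_le_cj_iff g, cj_cj_inv]; exact hle), cj_cj_inv]

theorem MaxP.exists_cj [Finite Y] [Fact p.Prime] {U U' : Subgroup Y} (hU : MaxP p U) (hU' : MaxP p U') :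
    ∃ g, Nodes.Reps.cj g U = U' := by
  let P : Sylow p Y := ⟨U, hU.1, fun {Q} hQ hle => hU.2 Q hQ hle⟩
  let P' : Sylow p Y := ⟨U', hU'.1, fun {Q} hQ hle => hU'.2 Q hQ hle⟩
  obtain ⟨g, hg⟩ := MulAction.exists_smul_eq Y P P'
  exact ⟨g, congrArg Sylow.toSubgroup hg⟩

theorem normalizer_cj (g : Y) (H : Subgroup Y) :
    Subgroup.normalizer (cj g H : Set Y) = cj g (Subgroup.normalizer (H : Set Y)) := by
  ext x
  rw [mem_cj, mem_normalizer_iff_cj, mem_normalizer_iff_cj, cj_mul, cj_mul]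
  exact ⟨fun h1 => by rw [h1, cj_inv_cj], fun h1 => by rw [← cj_cj_inv g (cj x (cj g H)), h1]⟩

theorem maxP_U [Finite W] [Finite Y] [Fact p.Prime] (R : RGD cs h p T n X) (hG : GG cs h T X = ⊤) :
    MaxP p (RGD.Sup X (RGD.Pos cs h)) :=
  ⟨R.isPGroup_Upos, fun _ hQ hle => eq_U_of_isPGroup R hQ hle (by rw [hG]; exact le_top)⟩

theorem bti_of_filt [Finite Y] [Fact p.Prime] (hF : HasFilt p Y) : BTI p Y := by
  obtain ⟨l, M, A, h, T, n, X, R, F, hW, hX, hF⟩ := hF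
  intro K hK hK1
  obtain ⟨g, J, -, h1, h2⟩ := borel_tits_of_filt hF hX hK hK1
  have hG := KFacts.RgdFilt.GG_eq_top (T := T) hX
  refine ⟨_, (isPGroup_VJ R J).map _, h1, h2.trans ?_, _, (maxP_U R hG).cj g, ?_⟩
  · exact (cj_mono g (PJ_le_normalizer_VJ R J)).trans (normalizer_cj g _).ge
  · refine (normalizer_cj g _).le.trans ((cj_mono g ?_).trans (normalizer_cj g _).ge)
    rw [normalizer_U' R hG]
    exact B_le_PJ.trans (PJ_le_normalizer_VJ R J)

theorem center_bot [IsSimpleGroup Y] (hY : ¬ IsMulCommutative Y) : Subgroup.center Y = ⊥ :=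
  KFacts.RgdLieCharP.center_eq_bot (by
    by_contra hc
    push Not at hc
    exact hY ⟨⟨hc⟩⟩)

/-- `S ∩ Inn Y` contains a Borel subgroup -/
theorem exists_borel [Finite Y] [IsSimpleGroup Y] [Fact p.Prime] (hY : ¬ IsMulCommutative Y) (hB : BTI p Y)
    {S : Subgroup (MulAut Y)} (hS : Group.IsSolvable S) (hm : MaxInv (InnG Y) S) (hn : ¬ NPar p (InnG Y) S) :
    ∃ U : Subgroup Y, MaxP p U ∧ ∀ g ∈ Subgroup.normalizer (U : Set Y), MulAut.conj g ∈ S := by
  have hinj := conj_injective hY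
  set R := S.comap (MulAut.conj : Y →* MulAut Y) with hR
  have hRS : ∀ s ∈ S, ∀ g ∈ R, s g ∈ R := fun s hs g hg => by
    rw [hR, Subgroup.mem_comap, ← conj_conj']
    exact mul_mem (mul_mem hs hg) (inv_mem hs)
  set Q : Subgroup Y → Prop := fun K => IsPGroup p K ∧ K ≤ R ∧ R ≤ Subgroup.normalizer (K : Set Y) with hQ
  have hsup : ∀ K K', Q K → Q K' → Q (K ⊔ K') := fun K K' h1 h2 =>
    ⟨IsPGroup.to_sup_of_normal_right' h1.1 h2.1 (h1.2.1.trans h2.2.2), sup_le h1.2.1 h2.2.1, fun g hg => by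
      rw [mem_normalizer_iff_cj, cj_sup, mem_normalizer_iff_cj.1 (h1.2.2 hg), mem_normalizer_iff_cj.1 (h2.2.2 hg)]⟩
  obtain ⟨K, hK⟩ := exists_maximal_of_wellFoundedGT Q ⟨⊥, IsPGroup.of_bot, bot_le, fun g _ => by
    rw [mem_normalizer_iff_cj, KFacts.RgdFilt.cj_bot]⟩
  have hle : ∀ K', Q K' → K' ≤ K := fun K' h1 => le_sup_right.trans (hK.2 (hsup K K' hK.1 h1) le_sup_left)
  have hK1 : K ≠ ⊥ := by
    intro hb
    refine hn fun E h1 h2 h3 => ?_
    have h4 := hle (E.comap MulAut.conj) ⟨h2.comap_of_injective _ hinj, fun x hx => (h1 hx).1,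
      le_normalizer_of_conj fun g hg x hx => by
        rw [Subgroup.mem_comap, map_mul, map_mul, map_inv]
        exact h3 _ hg _ hx⟩
    rw [eq_bot_iff]
    intro e he
    obtain ⟨x, rfl⟩ := (h1 he).2
    have h5 : x ∈ K := h4 he
    rw [hb, Subgroup.mem_bot] at h5
    rw [h5, map_one]
    exact one_mem _
  have hKS : ∀ s ∈ S, ∀ x ∈ K, s x ∈ K := by
    intro s hs x hx
    refine hle (K.map s.toMonoidHom) ⟨hK.1.1.map _, ?_, le_normalizer_of_conj ?_⟩ ⟨x, hx, rfl⟩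
    · rintro _ ⟨y, hy, rfl⟩
      exact hRS s hs y (hK.1.2.1 hy)
    · rintro g hg _ ⟨y, hy, rfl⟩
      refine ⟨_, (Subgroup.mem_normalizer_iff.1 (hK.1.2.2 (hRS _ (inv_mem hs) g hg)) y).1 hy, ?_⟩
      simp
  have hN : Subgroup.normalizer (K : Set Y) ≤ R := by
    intro g hg
    refine hm.mem_of_normalizes (as_inn hY) (X := K.map MulAut.conj)
      (fun e => hK1 ((Subgroup.map_eq_bot_iff_of_injective _ hinj).1 e))
      (fun e => (as_inn hY).not_le hS (e.trans (Subgroup.map_le_iff_le_comap.2 hK.1.2.1))) ?_ ⟨g, rfl⟩ ?_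
    · rintro s hs _ ⟨y, hy, rfl⟩
      exact ⟨_, hKS s hs y hy, (conj_conj' s y).symm⟩
    · rintro _ ⟨y, hy, rfl⟩
      exact ⟨_, (Subgroup.mem_normalizer_iff.1 hg y).1 hy, by simp⟩
  obtain ⟨V, hV, hKV, hNV, U, hU, hUV⟩ := hB K hK.1.1 hK1
  have h1 : R ⊓ V ≤ K := hle _ ⟨hV.to_inf_right, inf_le_left, le_normalizer_of_conj fun g hg x hx =>
    Subgroup.mem_inf.2 ⟨mul_mem (mul_mem hg hx.1) (inv_mem hg),
      (Subgroup.mem_normalizer_iff.1 (hNV (hK.1.2.2 hg)) x).1 hx.2⟩⟩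
  have h2 : K = V := by
    have := hV.isNilpotent
    have h3 := normalizerCondition_iff_only_full_group_self_normalizing.1
      (Group.normalizerCondition_of_isNilpotent (G := V)) (K.subgroupOf V) (by
        rw [← Subgroup.subgroupOf_normalizer_eq hKV]
        exact le_antisymm (fun x hx => h1 ⟨hN hx, x.2⟩) fun x hx => Subgroup.le_normalizer hx)
    exact le_antisymm hKV (Subgroup.subgroupOf_eq_top.1 h3)
  exact ⟨U, hU, fun g hg => hN (h2 ▸ hUV hg)⟩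

/-- conjugating into the standard position -/
theorem rowP_of_std [Finite Y] [IsSimpleGroup Y] [Fact p.Prime] (hY : ¬ IsMulCommutative Y) (hB : BTI p Y)
    {U : Subgroup Y} (hU : MaxP p U) (H : ∀ S : Subgroup (MulAut Y), Group.IsSolvable S → MaxInv (InnG Y) S →
      (∀ g ∈ Subgroup.normalizer (U : Set Y), MulAut.conj g ∈ S) → Good (InnG Y) S) : RowP p Y := by
  intro S hS hm hn
  obtain ⟨U', hU', h1⟩ := exists_borel hY hB hS hm hn
  obtain ⟨g, rfl⟩ := hU.exists_cj hU'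
  refine Good.of_conj (innG_normal Y) (MulAut.conj g⁻¹) (H _ ?_ (hm.conj (innG_normal Y) _) fun x hx => ?_)
  · exact Group.isSolvable_of_surjective ((MulAut.conj (MulAut.conj g⁻¹)).toMonoidHom.subgroupMap_surjective S)
  · refine ⟨_, h1 (g * x * g⁻¹) (by rw [normalizer_cj, conj_mem_cj]; exact hx), ?_⟩
    simp [mul_assoc]

/-- **The parabolic case for a simple group with a root group datum.** -/
theorem rowP_of_rgd [Finite W] [Finite Y] [IsSimpleGroup Y] [Fact p.Prime] (hY : ¬ IsMulCommutative Y)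
    (hB : BTI p Y) (R : RGD cs h p T n X) (hG : RGD.Sup X {x | IsRoot cs h x} = ⊤)
    (hI : (∀ i j, M i j ≠ 3) → ∃ i, Irr p T (X (sr i)) ∧
      ∀ j, j ≠ i → Irr p T (X (sr j)) ∨ ¬ Group.IsSolvable (LJ cs h T X {i})) : RowP p Y := by
  have hG' : GG cs h T X = ⊤ := KFacts.RgdRigid.GG_eq_top hG
  refine rowP_of_std hY hB (maxP_U R hG') fun S hS hm h1 => ?_
  rw [normalizer_U' R hG'] at h1
  have h2 := eq_PJ R hG' (P := S.comap MulAut.conj) h1 (J := {i | MulAut.conj (n i) ∈ S}) fun _ => Iff.rfl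
  refine Ctx.good ⟨hG, center_bot hY, KFacts.RgdLieCharP.conn_of_simple R hG (center_bot hY), hS, hm,
    fun g => by rw [← h2]; rfl, ?_⟩ R hI
  by_contra hc
  push Not at hc
  refine (as_inn hY).not_le hS ?_
  rintro _ ⟨g, rfl⟩
  have h3 : g ∈ S.comap MulAut.conj := by
    rw [h2, Set.eq_univ_of_forall hc]
    refine LJ_le_PJ ?_
    rw [LJ_univ, hG']
    trivial
  exact h3

end Cfsg.Agent.SB.Par
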