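import Mathlib
import Cfsg.Agent.KFacts.RgdCharP

/-!
# S5765, parabolic case: combinatorics of the diagram (helper64)

`Orb M J π` : the diagram is connected, `J` has no edges and the complement of `J` is one orbit of the symmetries of the
diagram which fix `J` (and commute with `π`).

* `Orb.card_le` : the complement of `J` has at most three elements;
* `Orb.two_of_no_three` : if a node outside `J` has no simple bond there are at most two nodes;
* `Orb.op_cases` : `π` fixes `J`, or there are two nodes and `π` exchanges them.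
-/

set_option autoImplicit false
set_option linter.unusedSectionVars false

namespace Cfsg.Agent.SB.Par

open CoxeterSystem Cfsg.Agent.ChevalleyStructure.CoxeterGeom Cfsg.Agent.Tits.Roots Cfsg.Agent.KFacts.RgdCharP

variable {I W : Type*} [Fintype I] [DecidableEq I] [Group W] {M : CoxeterMatrix I}

/-- adjacent nodes -/
def Ad (M : CoxeterMatrix I) (i j : I) : Prop := i ≠ j ∧ M i j ≠ 2

theorem Ad.symm {i j : I} (h : Ad M i j) : Ad M j i := ⟨h.1.symm, by rw [M.symmetric]; exact h.2⟩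

theorem ad_perm {σ : Equiv.Perm I} (hσ : ∀ i j, M (σ i) (σ j) = M i j) (i j : I) : Ad M (σ i) (σ j) ↔ Ad M i j := by
  simp [Ad, hσ]

theorem closed_univ (hc : Conn M) {K : Set I} (hK : K.Nonempty) (hcl : ∀ a ∈ K, ∀ b, Ad M a b → b ∈ K) (k : I) :
    k ∈ K := by
  by_contra hk
  obtain ⟨a, ha, b, hb, hab⟩ := hc K hK fun h => hk (h ▸ Set.mem_univ k)
  exact hb (hcl a ha b ⟨fun h => hb (h ▸ ha), hab⟩)

/-- a node with at most one neighbour -/
def Lf (M : CoxeterMatrix I) (i : I) : Prop := ∀ k k', Ad M i k → Ad M i k' → k = k'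

theorem Lf.perm {σ : Equiv.Perm I} (hσ : ∀ i j, M (σ i) (σ j) = M i j) {i : I} (h : Lf M i) : Lf M (σ i) := by
  intro k k' h1 h2
  obtain ⟨k, rfl⟩ := σ.surjective k
  obtain ⟨k', rfl⟩ := σ.surjective k'
  rw [h k k' ((ad_perm hσ _ _).1 h1) ((ad_perm hσ _ _).1 h2)]

theorem two_of_lf (hc : Conn M) (hl : ∀ i, Lf M i) (a : I) : ∃ b, ∀ k, k = a ∨ k = b := by
  by_cases h : ∃ b, Ad M a b
  · obtain ⟨b, hb⟩ := h
    refine ⟨b, closed_univ hc (K := {k | k = a ∨ k = b}) ⟨a, Or.inl rfl⟩ ?_⟩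
    rintro c (rfl | rfl) d hd
    · exact Or.inr (hl _ _ _ hd hb)
    · exact Or.inl (hl _ _ _ hd hb.symm)
  · refine ⟨a, closed_univ hc (K := {k | k = a ∨ k = a}) ⟨a, Or.inl rfl⟩ ?_⟩
    rintro c (rfl | rfl) d hd <;> exact absurd ⟨d, hd⟩ h

section Pos

variable (cs : CoxeterSystem M W) {A : I → I → ℤ} (h : IsCartan M A)

include h in
theorem pair_le {y : I → ℤ} (hy : 0 ≤ y) (i : I) {s : Finset I} (hs : i ∉ s) :
    pairing A i y ≤ 2 * y i + ∑ k ∈ s, A i k * y k := by
  have h1 : ∑ k ∈ insert i s, A i k * y k = 2 * y i + ∑ k ∈ s, A i k * y k := by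
    rw [Finset.sum_insert hs, h.diag]
  rw [← h1, pairing, ← Finset.sum_add_sum_compl (insert i s)]
  have h2 : ∑ k ∈ (insert i s)ᶜ, A i k * y k ≤ 0 := by
    refine Finset.sum_nonpos fun k hk => ?_
    have h3 : i ≠ k := by
      rintro rfl
      simp at hk
    exact mul_nonpos_of_nonpos_of_nonneg (cartan_nonpos h h3) (hy k)
  omega

include h in
theorem pair_le' {y : I → ℤ} (hy : 0 ≤ y) (i : I) {s : Finset I} (hs : ∀ k ∈ s, Ad M i k) :
    pairing A i y ≤ 2 * y i - ∑ k ∈ s, y k := by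
  have h1 := pair_le h hy i (s := s) fun hi => (hs i hi).1 rfl
  have h2 : ∑ k ∈ s, A i k * y k ≤ ∑ k ∈ s, -y k := by
    refine Finset.sum_le_sum fun k hk => ?_
    have h3 := cartan_neg h (hs k hk).1 (hs k hk).2
    have h4 : 0 ≤ y k := hy k
    nlinarith
  rw [Finset.sum_neg_distrib] at h2
  omega

include cs h in
theorem exists_lf [Finite W] [Nonempty I] : ∃ i, Lf M i := by
  have := Fintype.ofFinite W
  obtain ⟨i, -, hi⟩ := exists_pairing_pos cs h (x := fun _ => 1) (fun _ => zero_le_one)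
    (fun h0 => one_ne_zero (congrFun h0 (Classical.arbitrary I)))
  refine ⟨i, fun k k' h1 h2 => ?_⟩
  by_contra hne
  have h3 := pair_le' h (y := fun _ => 1) (fun _ => zero_le_one) i (s := {k, k'}) (by
    intro l hl
    rcases Finset.mem_insert.1 hl with rfl | hl
    · exact h1
    · rw [Finset.mem_singleton.1 hl]; exact h2)
  rw [Finset.sum_pair hne] at h3
  omega

include cs h in
theorem lf_of_no_three [Finite W] (h3 : ∀ i j, M i j ≠ 3) (b : I) : Lf M b := by
  have := Fintype.ofFinite W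
  intro a c ha hc
  by_contra hac
  have hab : a ≠ b := ha.1.symm
  have hcb : c ≠ b := hc.1.symm
  have key : ∀ a, Ad M b a → A a b < 0 ∧ 2 ≤ A b a * A a b := by
    intro a ha
    rcases h.rel b a ha.1 with h1 | h1 | ⟨-, h1 | h1⟩ | ⟨-, h1 | h1⟩
    · exact absurd h1.1 ha.2
    · exact absurd h1.1 (h3 _ _)
    all_goals (rw [h1.1, h1.2]; norm_num)
  let y : I → ℤ := fun k => if k = b then 2 else if k = a then -A a b else if k = c then -A c b else 0
  have yb : y b = 2 := by simp [y]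
  have ya : y a = -A a b := by simp [y, hab]
  have yc : y c = -A c b := by simp [y, hcb, Ne.symm hac]
  have hy : 0 ≤ y := by
    intro k
    have := (key a ha).1
    have := (key c hc).1
    simp only [y, Pi.zero_apply]
    split_ifs <;> omega
  obtain ⟨i, hi1, hi⟩ := exists_pairing_pos cs h hy (fun h0 => by
    have := congrFun h0 b
    rw [yb] at this
    exact two_ne_zero this)
  by_cases h1 : i = b
  · subst h1
    have h4 := pair_le h hy i (s := {a, c}) (by simp [hab.symm, hcb.symm])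
    rw [Finset.sum_pair hac, ya, yc, yb] at h4
    have := (key a ha).2
    have := (key c hc).2
    nlinarith
  by_cases h2 : i = a
  · subst h2
    have h4 := pair_le h hy i (s := {b}) (by simp [hab])
    rw [Finset.sum_singleton, ya, yb] at h4
    omega
  by_cases h4 : i = c
  · subst h4
    have h4 := pair_le h hy i (s := {b}) (by simp [hcb])
    rw [Finset.sum_singleton, yc, yb] at h4
    omega
  simp [y, h1, h2, h4] at hi1

end Pos

/-- The combinatorial situation of a solvable parabolic subgroup which is maximal under diagram symmetries. -/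
structure Orb (M : CoxeterMatrix I) (J : Set I) (π : I → I) : Prop where
  conn : Conn M
  ne : ∃ o, o ∉ J
  indep : ∀ i ∈ J, ∀ j ∈ J, ¬ Ad M i j
  trans : ∀ a b, a ∉ J → b ∉ J → ∃ σ : Equiv.Perm I, (∀ i j, M (σ i) (σ j) = M i j) ∧ (∀ i, σ i ∈ J ↔ i ∈ J) ∧
    (∀ i, σ (π i) = π (σ i)) ∧ σ a = b

namespace Orb

variable {J : Set I} {π : I → I} (H : Orb M J π)

include H

theorem exists_adj {j : I} (hj : j ∈ J) : ∃ o, o ∉ J ∧ Ad M j o := by
  by_contra hcon
  push Not at hcon
  obtain ⟨o, ho⟩ := H.ne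
  have h1 := closed_univ H.conn (K := {j}) ⟨j, rfl⟩ (by
    rintro a rfl b hb
    by_cases hbJ : b ∈ J
    · exact absurd hb (H.indep a hj b hbJ)
    · exact absurd hb (hcon b hbJ)) o
  exact ho (h1 ▸ hj)

variable (cs : CoxeterSystem M W) {A : I → I → ℤ} (h : IsCartan M A)

include cs h

theorem two_of_no_three [Finite W] {o : I} (ho : o ∉ J) (h3 : ∀ k, M o k ≠ 3) : ∃ b, ∀ k, k = o ∨ k = b := by
  have key : ∀ a, a ∉ J → ∀ k, M a k ≠ 3 := by
    intro a ha k
    obtain ⟨σ, h1, -, -, rfl⟩ := H.trans o a ho ha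
    obtain ⟨k, rfl⟩ := σ.surjective k
    rw [h1]
    exact h3 k
  refine two_of_lf H.conn (lf_of_no_three cs h fun i j hij => ?_) o
  by_cases hi : i ∈ J
  · by_cases hj : j ∈ J
    · refine H.indep i hi j hj ⟨?_, by omega⟩
      rintro rfl
      rw [M.diagonal] at hij
      omega
    · rw [M.symmetric] at hij
      exact key j hj i hij
  · exact key i hi j hij

theorem op_cases [Finite W] (hπ : ∀ i, π (π i) = i) (hM : ∀ i j, M (π i) (π j) = M i j) :
    (∀ i, π i ∈ J ↔ i ∈ J) ∨ ∃ o, o ∉ J ∧ π o ∈ J ∧ ∀ k, k = o ∨ k = π o := by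
  by_cases h1 : ∃ o, o ∉ J ∧ π o ∈ J
  · right
    obtain ⟨o, ho, hoJ⟩ := h1
    have : Nonempty I := ⟨o⟩
    let π' : Equiv.Perm I := ⟨π, π, hπ, hπ⟩
    have hπ' : ∀ i j, M (π' i) (π' j) = M i j := hM
    have h2 : ∀ a, a ∉ J → π a ∈ J := by
      intro a ha
      obtain ⟨σ, -, h2, h3, rfl⟩ := H.trans o a ho ha
      rw [← h3, h2]
      exact hoJ
    have h3 : ∀ j ∈ J, π j ∉ J := by
      intro j hj hj'
      obtain ⟨a, ha, hja⟩ := H.exists_adj hj
      exact H.indep _ hj' _ (h2 a ha) ((ad_perm hπ' j a).2 hja)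
    obtain ⟨a, ha, hl⟩ : ∃ a, a ∉ J ∧ Lf M a := by
      obtain ⟨i, hi⟩ := exists_lf cs h
      by_cases hiJ : i ∈ J
      · exact ⟨π i, h3 i hiJ, hi.perm hπ'⟩
      · exact ⟨i, hiJ, hi⟩
    have h4 : ∀ b, b ∉ J → Lf M b := by
      intro b hb
      obtain ⟨σ, h4, -, -, rfl⟩ := H.trans a b ha hb
      exact hl.perm h4
    have h5 : ∀ b, Lf M b := by
      intro b
      by_cases hb : b ∈ J
      · rw [← hπ b]
        exact (h4 _ (h3 b hb)).perm hπ'
      · exact h4 b hb
    obtain ⟨b, hb⟩ := two_of_lf H.conn h5 o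
    refine ⟨o, ho, hoJ, fun k => ?_⟩
    rcases hb (π o) with h6 | h6
    · exact absurd (h6 ▸ hoJ) ho
    · rw [h6]
      exact hb k
  · left
    push Not at h1
    intro i
    refine ⟨fun hi => ?_, fun hi => ?_⟩
    · by_contra hi'
      exact h1 i hi' hi
    · by_contra hi'
      exact h1 _ hi' (by rw [hπ]; exact hi)

theorem card_le [Finite W] : Nat.card {o // o ∉ J} ≤ 3 := by
  classical
  have := Fintype.ofFinite W
  let nb : I → Finset I := fun i => Finset.univ.filter (Ad M i)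
  have hnb : ∀ i k, k ∈ nb i ↔ Ad M i k := fun i k => by simp [nb]
  let y : I → ℤ := fun k => if k ∈ J then (nb k).card else 2
  have yJ : ∀ k ∈ J, y k = (nb k).card := fun k hk => if_pos hk
  have yO : ∀ k, k ∉ J → y k = 2 := fun k hk => if_neg hk
  have hy : 0 ≤ y := by
    intro k
    simp only [y, Pi.zero_apply]
    split_ifs <;> positivity
  obtain ⟨o₀, ho₀⟩ := H.ne
  obtain ⟨i, -, hi⟩ := exists_pairing_pos cs h hy (fun h0 => by
    have := congrFun h0 o₀
    rw [yO _ ho₀] at this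
    exact two_ne_zero this)
  have hiJ : i ∉ J := by
    intro hiJ
    have h1 := pair_le' h hy i (s := nb i) fun k hk => (hnb i k).1 hk
    have h2 : ∑ k ∈ nb i, y k = ∑ k ∈ nb i, (2 : ℤ) :=
      Finset.sum_congr rfl fun k hk => yO k fun hkJ => H.indep i hiJ k hkJ ((hnb i k).1 hk)
    rw [h2, Finset.sum_const, yJ i hiJ] at h1
    simp only [nsmul_eq_mul] at h1
    omega
  have Q : ∀ o, o ∉ J → ∀ s : Finset I, (∀ k ∈ s, Ad M o k) → ∑ k ∈ s, y k ≤ 3 := by
    intro o ho s hs
    obtain ⟨σ, h1, h2, -, rfl⟩ := H.trans o i ho hiJ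
    have h3 : ∀ k, y (σ k) = y k := by
      intro k
      have h3 : (nb (σ k)).card = (nb k).card :=
        (Finset.card_equiv σ fun l => by rw [hnb, hnb, ad_perm h1]).symm
      simp only [y, h2, h3]
    have h4 := pair_le' h hy (σ o) (s := s.map σ.toEmbedding) (by
      intro k hk
      obtain ⟨l, hl, rfl⟩ := Finset.mem_map.1 hk
      exact (ad_perm h1 o l).2 (hs l hl))
    rw [Finset.sum_map, yO _ hiJ] at h4
    simp only [Equiv.coe_toEmbedding, h3] at h4
    omega
  have Q2 : ∀ o, o ∉ J → ∀ k l, k ≠ l → Ad M o k → Ad M o l → y k + y l ≤ 3 := by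
    intro o ho k l hkl h1 h2
    have h3 := Q o ho {k, l} (by
      intro m hm
      rcases Finset.mem_insert.1 hm with rfl | hm
      · exact h1
      · rw [Finset.mem_singleton.1 hm]; exact h2)
    rwa [Finset.sum_pair hkl] at h3
  have hlf : ∀ j ∈ J, y j ≤ 1 → Lf M j := by
    intro j hj h1 k l hk hl
    rw [yJ j hj] at h1
    exact Finset.card_le_one.1 (by exact_mod_cast h1) k ((hnb j k).2 hk) l ((hnb j l).2 hl)
  have fin : ∀ s : Finset I, s.card ≤ 3 → (∀ o, o ∉ J → o ∈ s) → Nat.card {o // o ∉ J} ≤ 3 := by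
    intro s hs h1
    refine le_trans ?_ hs
    rw [← Nat.card_eq_finsetCard s]
    exact Nat.card_le_card_of_injective (fun o => (⟨o.1, h1 o.1 o.2⟩ : s))
      fun a b hab => Subtype.ext (congrArg (fun z : s => z.1) hab)
  by_cases hA : ∃ o o', o ∉ J ∧ o' ∉ J ∧ Ad M o o'
  · obtain ⟨o, o', ho, ho', hoo⟩ := hA
    have step : ∀ o o', o ∉ J → o' ∉ J → Ad M o o' →
        (∀ b, Ad M o b → b = o' ∨ b ∈ J) ∧ ∀ a ∈ J, Ad M o a → ∀ b, Ad M a b → b = o := by
      intro o o' ho ho' hoo
      refine ⟨fun b hb => ?_, fun a ha hoa b hb => ?_⟩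
      · by_contra hcon
        rw [not_or] at hcon
        have h1 := Q2 o ho b o' hcon.1 hb hoo
        rw [yO _ hcon.2, yO _ ho'] at h1
        omega
      · have h1 := Q2 o ho a o' (fun e => ho' (e ▸ ha)) hoa hoo
        rw [yO _ ho'] at h1
        exact hlf a ha (by omega) b o hb hoa.symm
    have h1 := closed_univ H.conn (K := {k | k = o ∨ k = o' ∨ (k ∈ J ∧ (Ad M o k ∨ Ad M o' k))}) ⟨o, Or.inl rfl⟩ (by
      rintro a (rfl | rfl | ⟨ha, h1 | h1⟩) b hb
      · rcases (step a o' ho ho' hoo).1 b hb with h1 | h1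
        · exact Or.inr (Or.inl h1)
        · exact Or.inr (Or.inr ⟨h1, Or.inl hb⟩)
      · rcases (step a o ho' ho hoo.symm).1 b hb with h1 | h1
        · exact Or.inl h1
        · exact Or.inr (Or.inr ⟨h1, Or.inr hb⟩)
      · exact Or.inl ((step o o' ho ho' hoo).2 a ha h1 b hb)
      · exact Or.inr (Or.inl ((step o' o ho' ho hoo.symm).2 a ha h1 b hb)))
    refine fin {o, o'} (Finset.card_le_two.trans (by omega)) fun k hk => ?_
    rcases h1 k with rfl | rfl | h2
    · simp
    · simp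
    · exact absurd h2.1 hk
  have hB : ∀ o, o ∉ J → ∀ b, Ad M o b → b ∈ J := by
    intro o ho b hb
    by_contra hb'
    exact hA ⟨o, b, ho, hb', hb⟩
  by_cases hC : ∃ j ∈ J, 2 ≤ y j
  · obtain ⟨j, hj, hj2⟩ := hC
    have hO : ∀ a, Ad M j a → a ∉ J := fun a ha haJ => H.indep j hj a haJ ha
    have h1 := closed_univ H.conn (K := {k | k = j ∨ Ad M j k ∨ (k ∈ J ∧ ∃ o, Ad M j o ∧ Ad M o k)})
      ⟨j, Or.inl rfl⟩ (by
      rintro a (rfl | ha | ⟨ha, o, h1, h2⟩) b hb
      · exact Or.inr (Or.inl hb)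
      · exact Or.inr (Or.inr ⟨hB a (hO a ha) b hb, a, ha, hb⟩)
      · by_cases haj : a = j
        · exact Or.inr (Or.inl (haj ▸ hb))
        · have h3 := Q2 o (hO o h1) a j haj h2 h1.symm
          rw [hlf a ha (by omega) b o hb h2.symm]
          exact Or.inr (Or.inl h1))
    obtain ⟨o, ho, hjo⟩ := H.exists_adj hj
    have h2 := Q o ho {j} (by
      intro k hk
      rw [Finset.mem_singleton.1 hk]
      exact hjo.symm)
    rw [Finset.sum_singleton, yJ j hj] at h2
    refine fin (nb j) (by exact_mod_cast h2) fun k hk => ?_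
    rcases h1 k with rfl | h3 | h3
    · exact absurd hj hk
    · exact (hnb j k).2 h3
    · exact absurd h3.1 hk
  · push Not at hC
    have h1 := closed_univ H.conn (K := {k | k = o₀ ∨ Ad M o₀ k}) ⟨o₀, Or.inl rfl⟩ (by
      rintro a (rfl | ha) b hb
      · exact Or.inr hb
      · have haJ := hB o₀ ho₀ a ha
        have := hC a haJ
        exact Or.inl (hlf a haJ (by omega) b o₀ hb ha.symm))
    refine fin {o₀} (by simp) fun k hk => ?_
    rcases h1 k with rfl | h2
    · simp
    · exact absurd (hB o₀ ho₀ k h2) hk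

end Orb

end Cfsg.Agent.SB.Par
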