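import Cfsg.Agent.SB.Par.Frame
import Cfsg.Agent.SB.Par.Diag
import Cfsg.Agent.SB.Trans
import Cfsg.Agent.H938.Rgd2

/-!
# S5765, parabolic case: the standard situation (helper64)

`Ctx cs h T X S J` : `S ≤ Aut Y` is solvable, `MaxInv`, and meets `Inn Y` in the parabolic subgroup `P_J`.

* `Ctx.decomp` : `s = conj g * β`, `g ∈ P_J`, `β` a frame automorphism;
* `Ctx.orb` : the combinatorial situation `Orb M J (op cs)`.
-/

set_option autoImplicit false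

namespace Cfsg.Agent.SB.Par

open CoxeterSystem Cfsg.Agent.ChevalleyStructure.CoxeterGeom Cfsg.Agent.Tits.Roots Cfsg.Agent.Tits.Core
  Cfsg.Agent.Tits.Exchange Cfsg.Agent.Nodes.Reps Cfsg.Agent.Nodes.BNOf Cfsg.Agent.Nodes.StabComb
  Cfsg.Agent.Nodes.Bruhat Cfsg.Agent.Nodes.OppDec Cfsg.Agent.Nodes.LeviDec Cfsg.Agent.Nodes.NormalForm
  Cfsg.Agent.KFacts.RgdOpp Cfsg.Agent.KFacts.RgdAut Cfsg.Agent.KFacts.RgdDiag Cfsg.Agent.KFacts.RgdRigid
  Cfsg.Agent.KFacts.RgdVJ Cfsg.Agent.KFacts.RgdCharP Cfsg.Agent.H786.FC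

variable {I W Y : Type*} [Fintype I] [DecidableEq I] [Group W] [Group Y] {M : CoxeterMatrix I}
  {cs : CoxeterSystem M W} {A : I → I → ℤ} {h : IsCartan M A} {p : ℕ} {T : Subgroup Y} {n : I → Y}
  {X : (I → ℤ) → Subgroup Y}

theorem conj_conj' (α : MulAut Y) (g : Y) : α * MulAut.conj g * α⁻¹ = MulAut.conj (α g) := by
  ext x
  simp

theorem conj_inj (hc : Subgroup.center Y = ⊥) {g : Y} (hg : MulAut.conj g = 1) : g = 1 := by
  rw [← Subgroup.mem_bot, ← hc, Subgroup.mem_center_iff]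
  intro x
  have := congrArg (fun f : MulAut Y => f x) hg
  simp only [MulAut.conj_apply, MulAut.one_apply] at this
  rw [← this, inv_mul_cancel_right, this]

/-- an automorphism fixing a subgroup `P` which contains the maximal `p`-subgroup `U` fixes `U` up to `P` -/
theorem exists_fix_of_max [Finite Y] [Fact p.Prime] {U P : Subgroup Y} (hU : IsPGroup p U) (hUP : U ≤ P)
    (hmax : ∀ Q : Subgroup Y, IsPGroup p Q → U ≤ Q → Q = U) {s : MulAut Y} (hs : Fix s P) :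
    ∃ g ∈ P, Fix (MulAut.conj g * s) U := by
  let Q : Sylow p P := ⟨U.subgroupOf P, hU.comap_subtype, fun {Q} hQ hle => by
    have h1 := hmax (Q.map P.subtype) (hQ.map _) fun u hu => ⟨⟨u, hUP hu⟩, hle hu, rfl⟩
    refine le_antisymm (fun x hx => ?_) hle
    rw [Subgroup.mem_subgroupOf, ← h1]
    exact ⟨x, hx, rfl⟩⟩
  have hU' : IsPGroup p ((U.map s.toMonoidHom).subgroupOf P) := (hU.map _).comap_subtype
  obtain ⟨Q', hQ'⟩ := hU'.exists_le_sylow
  obtain ⟨g, hg⟩ := MulAction.exists_smul_eq P Q' Q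
  refine ⟨g, g.2, fix_iff.2 ?_⟩
  refine Subgroup.eq_of_le_of_card_ge ?_ ?_
  · rintro _ ⟨u, hu, rfl⟩
    have h1 : (⟨s u, (hs u).2 (hUP hu)⟩ : P) ∈ Q' := hQ' ⟨u, hu, rfl⟩
    have h2 : g * ⟨s u, (hs u).2 (hUP hu)⟩ * g⁻¹ ∈ (g • Q' : Sylow p P) := by
      rw [Sylow.smul_def]
      exact Subgroup.smul_mem_pointwise_smul _ (MulAut.conj g) _ h1
    rw [hg] at h2
    exact h2
  · exact (Subgroup.card_map_of_injective (MulAut.conj (g : Y) * s).injective).ge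

theorem hgen_of [Finite W] (R : RGD cs h p T n X) (hG : GG cs h T X = ⊤) : RGD.B cs h T X ⊔ NN cs R.nsys = ⊤ := by
  rw [eq_top_iff]
  intro g _
  obtain ⟨w, b₁, h1, k, hk, b₂, h2, rfl⟩ := (mem_GG R).1 (hG ▸ Subgroup.mem_top g)
  exact mul_mem (mul_mem (Subgroup.mem_sup_left h1) (Subgroup.mem_sup_right ⟨w, hk⟩)) (Subgroup.mem_sup_left h2)

/-- the standard situation -/
structure Ctx (cs : CoxeterSystem M W) (h : IsCartan M A) (T : Subgroup Y) (X : (I → ℤ) → Subgroup Y)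
    (S : Subgroup (MulAut Y)) (J : Set I) : Prop where
  gen : RGD.Sup X {x | IsRoot cs h x} = ⊤
  cen : Subgroup.center Y = ⊥
  conn : Conn M
  solv : Group.IsSolvable S
  max : MaxInv (InnG Y) S
  par : ∀ g, MulAut.conj g ∈ S ↔ g ∈ PJ cs h T X J
  ne : ∃ o, o ∉ J

namespace Ctx

variable {S : Subgroup (MulAut Y)} {J : Set I} (C : Ctx cs h T X S J)
include C

theorem top : GG cs h T X = ⊤ := GG_eq_top C.gen

theorem fix {s : MulAut Y} (hs : s ∈ S) : Fix s (PJ cs h T X J) := fun x => by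
  rw [← C.par, ← C.par, ← conj_conj']
  exact ⟨fun h1 => by simpa [mul_assoc] using mul_mem (mul_mem (inv_mem hs) h1) hs,
    fun h1 => mul_mem (mul_mem hs h1) (inv_mem hs)⟩

/-- subgroups of `P_J` are solvable -/
theorem solvable {H : Subgroup Y} (hH : H ≤ PJ cs h T X J) : Group.IsSolvable H := by
  have := C.solv
  refine Group.isSolvable_of_isSolvable_injective
    (f := (MulAut.conj.comp H.subtype).codRestrict S fun x => (C.par _).2 (hH x.2)) ?_
  rw [injective_iff_map_eq_one]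
  intro x hx
  exact Subtype.ext (conj_inj C.cen (congrArg Subtype.val hx))

variable [Finite W] [Finite Y] [Fact p.Prime] (R : RGD cs h p T n X)
include R

theorem decomp {s : MulAut Y} (hs : s ∈ S) : ∃ g ∈ PJ cs h T X J, ∃ β ∈ S, ∃ σ, Fr cs h T X β σ ∧
    (∀ i, σ i ∈ J ↔ i ∈ J) ∧ s = MulAut.conj g * β := by
  have hUP : RGD.Sup X (RGD.Pos cs h) ≤ PJ cs h T X J := RGD.U_le_B.trans B_le_PJ
  obtain ⟨g, hg, h1⟩ := exists_fix_of_max R.isPGroup_Upos hUP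
    (fun Q hQ hle => eq_U_of_isPGroup R hQ hle (by rw [C.top]; exact le_top)) (C.fix hs)
  obtain ⟨u, hu, h2, h3, -, σ, D⟩ := exists_frame_pow R C.top h1
  have hβ : MulAut.conj u * (MulAut.conj g * s) ∈ S :=
    mul_mem ((C.par u).2 (hUP hu)) (mul_mem ((C.par g).2 hg) hs)
  have F : Fr cs h T X _ σ := ⟨h2, h3, D⟩
  refine ⟨(u * g)⁻¹, inv_mem (mul_mem (hUP hu) hg), _, hβ, σ, F, F.mem_of_PJ R (C.fix hβ), ?_⟩
  rw [← mul_assoc (MulAut.conj u), ← map_mul, ← mul_assoc, ← map_mul, inv_mul_cancel, map_one, one_mul]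

theorem trans {a b : I} (ha : a ∉ J) (hb : b ∉ J) : ∃ β ∈ S, ∃ σ, Fr cs h T X β σ ∧ σ a = b := by
  set K : Set I := {k | k ∈ J ∨ ∃ β ∈ S, ∃ σ, Fr cs h T X β σ ∧ σ a = k} with hK
  have hJK : J ⊆ K := fun k hk => Or.inl hk
  have step : ∀ β ∈ S, ∀ σ, Fr cs h T X β σ → ∀ i ∈ K, σ i ∈ K := by
    rintro β hβ σ F i (hi | ⟨β', hβ', σ', F', rfl⟩)
    · exact Or.inl ((F.mem_of_PJ R (C.fix hβ) i).2 hi)
    · exact Or.inr ⟨_, mul_mem hβ hβ', _, F.mul F', rfl⟩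
  have hfix : ∀ s ∈ S, Fix s (PJ cs h T X K) := by
    intro s hs
    obtain ⟨g, hg, β, hβ, σ, F, -, rfl⟩ := C.decomp R hs
    refine (mp_conj_of_mem (PJ_mono hJK hg)).mul (F.mapP R C.top fun i => ⟨fun hi => ?_, step β hβ σ F i⟩)
    simpa using step _ (inv_mem hβ) _ F.inv _ hi
  rcases C.max ((PJ cs h T X K).map MulAut.conj) (by
      rintro _ ⟨h1, g, rfl⟩
      exact ⟨g, PJ_mono hJK ((C.par g).1 h1), rfl⟩) (Subgroup.map_le_range _ _) (by
      rintro s hs _ ⟨g, hg, rfl⟩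
      exact ⟨s g, (hfix s hs g).2 hg, (conj_conj' s g).symm⟩) with h1 | h1
  · have h2 : MulAut.conj (n b) ∈ (PJ cs h T X K).map MulAut.conj := by
      rw [h1]
      exact ⟨_, rfl⟩
    obtain ⟨g, hg, e⟩ := h2
    have h3 : g⁻¹ * n b = 1 := conj_inj C.cen (by rw [map_mul, map_inv, e, inv_mul_cancel])
    rw [inv_mul_eq_one.1 h3] at hg
    exact ((rp_mem_PJ_iff R (rp_simple cs R.nsys b)).1 hg).resolve_left hb
  · have h2 : n a ∈ PJ cs h T X K :=
      (rp_mem_PJ_iff R (rp_simple cs R.nsys a)).2 (Or.inr ⟨1, one_mem _, 1, Fr.one, rfl⟩)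
    exact absurd ((rp_mem_PJ_iff R (rp_simple cs R.nsys a)).1 ((C.par _).1 (h1 ⟨_, h2, rfl⟩))) ha

theorem orb : Orb M J (op cs) where
  conn := C.conn
  ne := C.ne
  indep := fun i hi j hj hij => H938.not_isSolvable_LJ Fact.out R (hgen_of R C.top) hij.1 hij.2
    (C.solvable ((LJ_mono (by
      rintro k (rfl | rfl)
      exacts [hi, hj])).trans LJ_le_PJ))
  trans := fun a b ha hb => by
    obtain ⟨β, hβ, σ, F, e⟩ := C.trans R ha hb
    exact ⟨σ, F.D.matrix R, F.mem_of_PJ R (C.fix hβ), F.op_comm R C.top, e⟩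

end Ctx

end Cfsg.Agent.SB.Par
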