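import Cfsg.Agent.KFacts.RgdRigid
import Cfsg.Agent.KFacts.RgdVJ
import Cfsg.Agent.KFacts.RgdCharP

/-!
# S5765, parabolic case: frame automorphisms and parabolic subgroups (helper64)

* `Mp β H H'` : `β` maps `H` onto `H'`; `Fr` : frame automorphisms with their diagram symmetry;
* `Fr.mapP`, `Fr.mapPN`, `Fr.mapL`, `Fr.mapV`, `Fr.mapVN` : the action on the standard subgroups;
* `le_VJ` : `V_J` is the largest normal `p`-subgroup of `P_J`; `eq_bot_of_LJ` : `O_p(L_J) = 1`;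
* `cj_PJ` : `w₀` maps `P_J` onto the opposite parabolic subgroup; `Fr.op_comm` : `σ` commutes with the opposition.
-/

set_option autoImplicit false

namespace Cfsg.Agent.SB.Par

open CoxeterSystem Cfsg.Agent.ChevalleyStructure.CoxeterGeom Cfsg.Agent.Tits.Roots Cfsg.Agent.Tits.Core
  Cfsg.Agent.Tits.Exchange Cfsg.Agent.Nodes.Reps Cfsg.Agent.Nodes.BNOf Cfsg.Agent.Nodes.StabComb
  Cfsg.Agent.Nodes.Bruhat Cfsg.Agent.Nodes.OppDec Cfsg.Agent.Nodes.LeviDec Cfsg.Agent.Nodes.NormalForm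
  Cfsg.Agent.KFacts.RgdOpp Cfsg.Agent.KFacts.RgdAut Cfsg.Agent.KFacts.RgdDiag Cfsg.Agent.KFacts.RgdRigid
  Cfsg.Agent.KFacts.RgdVJ

variable {I W Y : Type*} [Fintype I] [DecidableEq I] [Group W] [Group Y] {M : CoxeterMatrix I}
  {cs : CoxeterSystem M W} {A : I → I → ℤ} {h : IsCartan M A} {p : ℕ} {T : Subgroup Y} {n : I → Y}
  {X : (I → ℤ) → Subgroup Y}

/-- `β` maps `H` onto `H'` -/
def Mp (β : MulAut Y) (H H' : Subgroup Y) : Prop := ∀ x, β x ∈ H' ↔ x ∈ H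

theorem Mp.inv {β : MulAut Y} {H H' : Subgroup Y} (hβ : Mp β H H') : Mp β⁻¹ H' H := fun x => by
  rw [← hβ, MulAut.apply_inv_self]

theorem Mp.mul {β γ : MulAut Y} {H H' H'' : Subgroup Y} (hβ : Mp β H' H'') (hγ : Mp γ H H') :
    Mp (β * γ) H H'' := fun x => by
  rw [MulAut.mul_apply, hβ, hγ]

theorem Mp.inf {β : MulAut Y} {H H' K K' : Subgroup Y} (h1 : Mp β H H') (h2 : Mp β K K') :
    Mp β (H ⊓ K) (H' ⊓ K') := fun x => by
  rw [Subgroup.mem_inf, Subgroup.mem_inf, h1, h2]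

theorem mp_conj {g : Y} {H : Subgroup Y} (hg : g ∈ Subgroup.normalizer (H : Set Y)) : Mp (MulAut.conj g) H H :=
  fun x => (Subgroup.mem_normalizer_iff.1 hg x).symm

theorem mp_conj_of_mem {g : Y} {H : Subgroup Y} (hg : g ∈ H) : Mp (MulAut.conj g) H H :=
  mp_conj (Subgroup.le_normalizer hg)

theorem Mp.unique {β : MulAut Y} {H H' H'' : Subgroup Y} (h1 : Mp β H H') (h2 : Mp β H H'') : H' = H'' := by
  ext x
  rw [← h1.inv x, h2.inv x]

/-- a frame automorphism -/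
structure Fr (cs : CoxeterSystem M W) (h : IsCartan M A) (T : Subgroup Y) (X : (I → ℤ) → Subgroup Y)
    (β : MulAut Y) (σ : Equiv.Perm I) : Prop where
  fU : Fix β (RGD.Sup X (RGD.Pos cs h))
  fUN : Fix β (UN cs h X)
  D : Diag T X β σ

theorem Fr.inv {β : MulAut Y} {σ : Equiv.Perm I} (F : Fr cs h T X β σ) : Fr cs h T X β⁻¹ σ⁻¹ :=
  ⟨F.fU.inv, F.fUN.inv, F.D.inv⟩

theorem Fr.mul {β β' : MulAut Y} {σ σ' : Equiv.Perm I} (F : Fr cs h T X β σ) (F' : Fr cs h T X β' σ') :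
    Fr cs h T X (β * β') (σ * σ') :=
  ⟨F.fU.mul F'.fU, F.fUN.mul F'.fUN, F.D.mul F'.D⟩

theorem Fr.one : Fr cs h T X (1 : MulAut Y) (1 : Equiv.Perm I) :=
  ⟨fun _ => Iff.rfl, fun _ => Iff.rfl, Diag.one⟩

theorem Fr.neg {β : MulAut Y} {σ : Equiv.Perm I} (F : Fr cs h T X β σ) : Fr cs h T (fun x => X (-x)) β σ :=
  ⟨by rw [U_opp]; exact F.fUN, by rw [UN_opp]; exact F.fU, F.D.opp⟩

theorem simple_mem_WJ (h : IsCartan M A) {J : Set I} {k : I} : cs.simple k ∈ WJ cs J ↔ k ∈ J := by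
  refine ⟨fun hk => ?_, fun hk => Subgroup.subset_closure ⟨k, hk, rfl⟩⟩
  by_contra hkJ
  have h1 := NotJ.act hk (sr_mem_NotJ (cs := cs) (h := h) hkJ)
  rw [rep_simple_sr] at h1
  exact (isRoot_sr cs h k).not_pos_neg (sr_nonneg k) (neg_nonneg.1 h1.2.1)

theorem VJ_anti {J K : Set I} (hJK : J ⊆ K) : VJ cs h X K ≤ VJ cs h X J :=
  RGD.Sup_mono fun _ ⟨h1, h2, k, hk, h3⟩ => ⟨h1, h2, k, fun hkJ => hk (hJK hkJ), h3⟩

theorem X_le_VJ {J : Set I} {i : I} (hi : i ∉ J) : X (sr i) ≤ VJ cs h X J := RGD.le_Sup (sr_mem_NotJ hi)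

theorem X_le_LJ' {J : Set I} {i : I} (hi : i ∈ J) : X (sr i) ≤ LJ cs h T X J :=
  X_le_LJ (PosJ_subset J (sr_mem_PosJ hi))

section
variable [Finite W] (R : RGD cs h p T n X)
include R

theorem rp_unique {w w' : W} {g : Y} (h1 : Rp cs R.nsys w g) (h2 : Rp cs R.nsys w' g) : w = w' :=
  Cell.unique R (cell_of_rp h1) (cell_of_rp h2)

theorem rp_mem_PJ_iff {J : Set I} {i : I} {g : Y} (hg : Rp cs R.nsys (cs.simple i) g) :
    g ∈ PJ cs h T X J ↔ i ∈ J := by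
  rw [cell_mem_PJ_iff R (cell_of_rp hg), simple_mem_WJ h]

omit [Finite W] R in
theorem PJ_mono {J K : Set I} (hJK : J ⊆ K) : PJ cs h T X J ≤ PJ cs h T X K :=
  sup_le ((LJ_mono hJK).trans LJ_le_PJ) ((VJ_le_B J).trans B_le_PJ)

/-- overgroups of `B` -/
theorem eq_PJ (hG : GG cs h T X = ⊤) {P : Subgroup Y} (hP : RGD.B cs h T X ≤ P) {J : Set I}
    (hJ : ∀ i, n i ∈ P ↔ i ∈ J) : P = PJ cs h T X J := by
  have h1 := inf_eq_PJ R hP
  rw [hG, inf_top_eq] at h1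
  rw [h1]
  congr 1
  ext i
  exact hJ i

theorem Fr.mapP (hG : GG cs h T X = ⊤) {β : MulAut Y} {σ : Equiv.Perm I} (F : Fr cs h T X β σ) {K K' : Set I}
    (hK : ∀ i, σ i ∈ K' ↔ i ∈ K) : Mp β (PJ cs h T X K) (PJ cs h T X K') := by
  have hB := fix_B R hG F.fU
  have h1 : (PJ cs h T X K').comap β.toMonoidHom = PJ cs h T X K := by
    refine eq_PJ R hG (fun b hb => ?_) fun i => ?_
    · exact B_le_PJ ((hB b).2 hb)
    · rw [← hK]
      exact rp_mem_PJ_iff R (F.D.rp (R := R) i)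
  intro x
  rw [← h1]
  rfl

theorem Fr.mapPN (hG : GG cs h T X = ⊤) {β : MulAut Y} {σ : Equiv.Perm I} (F : Fr cs h T X β σ) {K K' : Set I}
    (hK : ∀ i, σ i ∈ K' ↔ i ∈ K) : Mp β (PNJ cs h T X K) (PNJ cs h T X K') := by
  have h1 := Fr.mapP (opp R) (by rw [GG_opp]; exact hG) F.neg hK
  rwa [PJ_opp, PJ_opp] at h1

theorem Fr.mapL (hG : GG cs h T X = ⊤) {β : MulAut Y} {σ : Equiv.Perm I} (F : Fr cs h T X β σ) {K K' : Set I}
    (hK : ∀ i, σ i ∈ K' ↔ i ∈ K) : Mp β (LJ cs h T X K) (LJ cs h T X K') := by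
  rw [← PJ_inf_PNJ R, ← PJ_inf_PNJ R]
  exact (F.mapP R hG hK).inf (F.mapPN R hG hK)

/-- `V_J` is the core of `U` in `P_J` -/
theorem mem_VJ_iff {J : Set I} {v : Y} :
    v ∈ VJ cs h X J ↔ ∀ g ∈ PJ cs h T X J, g * v * g⁻¹ ∈ RGD.Sup X (RGD.Pos cs h) := by
  refine ⟨fun hv g hg => VJ_le_U J ((Subgroup.mem_normalizer_iff.1 (PJ_le_normalizer_VJ R J hg) v).1 hv),
    fun hv => ?_⟩
  obtain ⟨t, ht, u, hu, e⟩ := mem_TV R (J := J) (c := v) fun g hg => RGD.U_le_B (hv g hg)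
  have h1 : v ∈ RGD.Sup X (RGD.Pos cs h) := by simpa using hv 1 (one_mem _)
  have h2 : t ∈ RGD.Sup X (RGD.Pos cs h) ⊓ T := by
    refine Subgroup.mem_inf.2 ⟨?_, ht⟩
    have : t = v * u⁻¹ := by rw [e]; group
    rw [this]
    exact mul_mem h1 (inv_mem (VJ_le_U J hu))
  rw [U_inf_T R, Subgroup.mem_bot] at h2
  rw [e, h2, one_mul]
  exact hu

theorem Fr.mapV (hG : GG cs h T X = ⊤) {β : MulAut Y} {σ : Equiv.Perm I} (F : Fr cs h T X β σ) {K K' : Set I}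
    (hK : ∀ i, σ i ∈ K' ↔ i ∈ K) : Mp β (VJ cs h X K) (VJ cs h X K') := by
  have hP := F.mapP R hG hK
  intro x
  rw [mem_VJ_iff R, mem_VJ_iff R]
  refine ⟨fun hx g hg => ?_, fun hx g hg => ?_⟩
  · have := hx (β g) ((hP g).2 hg)
    rw [← map_inv, ← map_mul, ← map_mul] at this
    exact (F.fU _).1 this
  · have := (F.fU _).2 (hx (β⁻¹ g) ((hP.inv g).2 hg))
    simpa using this

theorem Fr.mapVN (hG : GG cs h T X = ⊤) {β : MulAut Y} {σ : Equiv.Perm I} (F : Fr cs h T X β σ) {K K' : Set I}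
    (hK : ∀ i, σ i ∈ K' ↔ i ∈ K) : Mp β (VNJ cs h X K) (VNJ cs h X K') := by
  have h1 := Fr.mapV (opp R) (by rw [GG_opp]; exact hG) F.neg hK
  rwa [VJ_opp, VJ_opp] at h1

/-- the permutation is determined by the images of the parabolic subgroups -/
theorem Fr.mem_of_PJ {β : MulAut Y} {σ : Equiv.Perm I} (F : Fr cs h T X β σ) {K K' : Set I}
    (hK : Mp β (PJ cs h T X K) (PJ cs h T X K')) (i : I) : σ i ∈ K' ↔ i ∈ K := by
  rw [← rp_mem_PJ_iff R (F.D.rp (R := R) i), hK, rp_mem_PJ_iff R (rp_simple cs R.nsys i)]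

theorem exists_fr (hG : GG cs h T X = ⊤) {β : MulAut Y} (hU : Fix β (RGD.Sup X (RGD.Pos cs h)))
    (hUN : Fix β (UN cs h X)) : ∃ σ, Fr cs h T X β σ := by
  obtain ⟨σ, D⟩ := exists_diag R hG hU hUN
  exact ⟨σ, hU, hUN, D⟩

/-- `O_p(P_J) = V_J` -/
theorem le_VJ [Finite Y] [Fact p.Prime] (hG : GG cs h T X = ⊤) {J : Set I} {E : Subgroup Y} (hE : IsPGroup p E)
    (hn : ∀ g ∈ PJ cs h T X J, ∀ e ∈ E, g * e * g⁻¹ ∈ E) : E ≤ VJ cs h X J := by
  have hUP : RGD.Sup X (RGD.Pos cs h) ≤ PJ cs h T X J := RGD.U_le_B.trans B_le_PJ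
  have h1 : RGD.Sup X (RGD.Pos cs h) ≤ Subgroup.normalizer (E : Set Y) := fun u hu =>
    Subgroup.mem_normalizer_iff.2 fun e => ⟨hn u (hUP hu) e, fun he => by
      simpa [mul_assoc] using hn u⁻¹ (hUP (inv_mem hu)) _ he⟩
  have h2 := eq_U_of_isPGroup R (IsPGroup.to_sup_of_normal_right' R.isPGroup_Upos hE h1) le_sup_left
    (by rw [hG]; exact le_top)
  intro e he
  rw [mem_VJ_iff R]
  intro g hg
  rw [← h2]
  exact Subgroup.mem_sup_right (hn g hg e he)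

/-- `O_p(L_J) = 1` -/
theorem eq_bot_of_LJ [Finite Y] [Fact p.Prime] (hG : GG cs h T X = ⊤) {J : Set I} {E : Subgroup Y}
    (hE : IsPGroup p E) (hL : E ≤ LJ cs h T X J) (hn : ∀ g ∈ LJ cs h T X J, ∀ e ∈ E, g * e * g⁻¹ ∈ E) : E = ⊥ := by
  have hEV : E ≤ Subgroup.normalizer (VJ cs h X J : Set Y) := hL.trans (LJ_le_normalizer_VJ R J)
  have h1 := le_VJ R hG (J := J) (IsPGroup.to_sup_of_normal_right' hE (KFacts.RgdCharP.isPGroup_VJ R J) hEV) (by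
    intro g hg e he
    obtain ⟨l, hl, v, hv, rfl⟩ := (mem_PJ R).1 hg
    have h2 : v * e * v⁻¹ ∈ E ⊔ VJ cs h X J :=
      mul_mem (mul_mem (Subgroup.mem_sup_right hv) he) (inv_mem (Subgroup.mem_sup_right hv))
    have h3 : cj l (E ⊔ VJ cs h X J) ≤ E ⊔ VJ cs h X J := by
      rw [cj_sup, mem_normalizer_iff_cj.1 (LJ_le_normalizer_VJ R J hl)]
      refine sup_le_sup_right ?_ _
      rintro _ ⟨y, hy, rfl⟩
      exact hn l hl y hy
    have h4 := h3 (conj_mem_cj.2 h2)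
    simpa [mul_assoc] using h4)
  rw [eq_bot_iff, ← LJ_inf_VJ R J]
  exact le_inf hL (le_sup_left.trans h1)

/-! ### the longest element -/

theorem rp_op {k : Y} (hk : Rp cs R.nsys (w0 cs) k) {i : I} {g : Y} (hg : Rp cs R.nsys (cs.simple i) g) :
    Rp cs R.nsys (cs.simple (op cs i)) (k⁻¹ * g * k) := by
  have := (hk.inv.mul hg).mul hk
  rwa [w0_inv, ← simple_op] at this

theorem cj_PJ (hG : GG cs h T X = ⊤) {k : Y} (hk : Rp cs R.nsys (w0 cs) k) {J K : Set I}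
    (hJ : ∀ i, op cs i ∈ J ↔ i ∈ K) : cj k (PJ cs h T X J) = PNJ cs h T X K := by
  rw [← PJ_opp]
  refine eq_PJ (opp R) (by rw [GG_opp]; exact hG) ?_ fun i => ?_
  · rw [B_opp, ← cj_B R hk]
    exact cj_mono k B_le_PJ
  · rw [mem_cj, rp_mem_PJ_iff R (rp_op R hk (rp_simple cs R.nsys i)), hJ]

theorem Fr.w0_mem (hG : GG cs h T X = ⊤) {β : MulAut Y} {σ : Equiv.Perm I} (F : Fr cs h T X β σ) {k : Y}
    (hk : Rp cs R.nsys (w0 cs) k) : k⁻¹ * β k ∈ T := by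
  rw [← B_inf_BN R, ← normalizer_U' R hG, ← normalizer_UN R hG]
  have key : ∀ {H H' : Subgroup Y}, Fix β H → Fix β H' → cj k H = H' →
      k⁻¹ * β k ∈ Subgroup.normalizer (H : Set Y) := by
    intro H H' h1 h2 h3
    refine Subgroup.mem_normalizer_iff.2 fun x => ?_
    have e : k⁻¹ * β k * x * (k⁻¹ * β k)⁻¹ = k⁻¹ * β (k * β⁻¹ x * k⁻¹) * k := by simp [mul_assoc]
    rw [e, ← mem_cj, h3, h2, ← h3, conj_mem_cj, h1.inv]
  exact ⟨key F.fU F.fUN (cj_U R hk), key F.fUN F.fU (cj_UN R hk)⟩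

theorem Fr.op_comm (hG : GG cs h T X = ⊤) {β : MulAut Y} {σ : Equiv.Perm I} (F : Fr cs h T X β σ) (i : I) :
    σ (op cs i) = op cs (σ i) := by
  obtain ⟨k, hk⟩ := exists_rp cs R.nsys (w0 cs)
  have hk' : Rp cs R.nsys (w0 cs) (β k) := by
    simpa using hk.mul_mem_right (F.w0_mem R hG hk)
  have h1 := rp_op R hk' (F.D.rp (R := R) i)
  have h2 := (rp_simple cs R.nsys (op cs i)).unique (rp_op R hk (rp_simple cs R.nsys i))
  have h3 := (F.D.rp (R := R) (op cs i)).mul_mem_right ((F.D.tor _).2 h2)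
  have e : β (n (op cs i)) * β ((n (op cs i))⁻¹ * (k⁻¹ * n i * k)) = (β k)⁻¹ * β (n i) * β k := by simp
  rw [e] at h3
  by_contra hne
  exact RGD.simple_ne (cs := cs) (h := h) hne (rp_unique R h3 h1)

end

theorem simple_inj (h : IsCartan M A) : Function.Injective cs.simple := fun _ _ e => by
  by_contra hne
  exact RGD.simple_ne (cs := cs) (h := h) hne e

omit [DecidableEq I] in
theorem matrix_op [Finite W] (i j : I) : M (op cs i) (op cs j) = M i j := by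
  classical
  rw [← LieRecognition.CoxForm.orderOf_eq cs, ← LieRecognition.CoxForm.orderOf_eq cs, simple_op, simple_op]
  have e : w0 cs * cs.simple i * w0 cs * (w0 cs * cs.simple j * w0 cs) =
      MulAut.conj (w0 cs) (cs.simple i * cs.simple j) := by
    rw [MulAut.conj_apply, w0_inv]
    calc _ = w0 cs * cs.simple i * (w0 cs * w0 cs) * cs.simple j * w0 cs := by group
      _ = _ := by rw [w0_mul_self]; group
  rw [e, MulEquiv.orderOf_eq]

end Cfsg.Agent.SB.Par
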