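import Mathlib

/-!
# S5765, parabolic case: recolouring of triples by Nielsen moves (helper64)

`exists_three` : `H` a solvable subgroup of the finite group `G`, `v ≠ 1` a triple of elements of `G`. Then there are
three triples generating the same subgroup as `v` which are pairwise not conjugate under `H`.
`exists_three_mod` : the same modulo a subgroup `N`.
-/

set_option autoImplicit false

namespace Cfsg.Agent.SB.Par

open Subgroup
open scoped commutatorElement

section Nielsen

variable {G : Type*} [Group G]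

/-- the Nielsen move `v a ↦ v a * v b` -/
def nie (a b : Fin 3) (hab : a ≠ b) : Equiv.Perm (Fin 3 → G) where
  toFun v := Function.update v a (v a * v b)
  invFun v := Function.update v a (v a * (v b)⁻¹)
  left_inv v := by
    funext c
    by_cases hc : c = a
    · subst hc
      simp [Function.update_of_ne hab.symm]
    · simp [Function.update_of_ne hc]
  right_inv v := by
    funext c
    by_cases hc : c = a
    · subst hc
      simp [Function.update_of_ne hab.symm]
    · simp [Function.update_of_ne hc]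

theorem nie_apply (a b : Fin 3) (hab : a ≠ b) (v : Fin 3 → G) :
    nie a b hab v = Function.update v a (v a * v b) := rfl

theorem nie_inv_apply (a b : Fin 3) (hab : a ≠ b) (v : Fin 3 → G) :
    (nie a b hab)⁻¹ v = Function.update v a (v a * (v b)⁻¹) := rfl

theorem nie_comm {a b c : Fin 3} (hab : a ≠ b) (hbc : b ≠ c) (hac : a ≠ c) :
    (nie a c hac : Equiv.Perm (Fin 3 → G)) = nie a b hab * nie b c hbc * (nie a b hab)⁻¹ * (nie b c hbc)⁻¹ := by
  ext v d
  simp only [Equiv.Perm.mul_apply, nie_apply, nie_inv_apply]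
  by_cases h1 : d = a
  · subst h1
    simp [Function.update_of_ne hab, Function.update_of_ne hab.symm, Function.update_of_ne hbc.symm,
      Function.update_of_ne hac.symm, mul_assoc]
  · by_cases h2 : d = b
    · subst h2
      simp [Function.update_of_ne hab.symm, Function.update_of_ne hbc.symm, Function.update_of_ne hac.symm]
    · simp [Function.update_of_ne h1, Function.update_of_ne h2]

theorem exists_third : ∀ a c : Fin 3, a ≠ c → ∃ b, a ≠ b ∧ b ≠ c := by decide

theorem exists_other : ∀ b : Fin 3, ∃ a, a ≠ b := by decide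

/-- simultaneous conjugation -/
def ac (g : G) (v : Fin 3 → G) : Fin 3 → G := fun a => g * v a * g⁻¹

theorem ac_mul (g k : G) (v : Fin 3 → G) : ac (g * k) v = ac g (ac k v) := by
  funext a
  simp only [ac]
  group

theorem ac_one (v : Fin 3 → G) : ac 1 v = v := by
  funext a
  simp [ac]

/-- the permutations of the triples commuting with conjugation and preserving the generated subgroup -/
def Gam (G : Type*) [Group G] : Subgroup (Equiv.Perm (Fin 3 → G)) where
  carrier := {γ | (∀ g v, γ (ac g v) = ac g (γ v)) ∧ ∀ v, closure (Set.range (γ v)) = closure (Set.range v)}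
  one_mem' := ⟨fun _ _ => rfl, fun _ => rfl⟩
  mul_mem' := by
    rintro γ δ ⟨h1, h2⟩ ⟨h3, h4⟩
    exact ⟨fun g v => by rw [Equiv.Perm.mul_apply, h3, h1, Equiv.Perm.mul_apply],
      fun v => by rw [Equiv.Perm.mul_apply, h2, h4]⟩
  inv_mem' := by
    rintro γ ⟨h1, h2⟩
    refine ⟨fun g v => γ.injective ?_, fun v => ?_⟩
    · rw [h1]
      simp
    · rw [← h2 (γ⁻¹ v)]
      simp

theorem nie_mem (a b : Fin 3) (hab : a ≠ b) : nie a b hab ∈ Gam G := by
  refine ⟨fun g v => ?_, fun v => ?_⟩
  · funext c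
    by_cases hc : c = a
    · subst hc
      simp only [nie_apply, ac, Function.update_self]
      group
    · simp only [nie_apply, ac, Function.update_of_ne hc]
  · have hv : ∀ c, v c ∈ closure (Set.range v) := fun c => subset_closure ⟨c, rfl⟩
    have hw : ∀ c, nie a b hab v c ∈ closure (Set.range (nie a b hab v)) := fun c => subset_closure ⟨c, rfl⟩
    apply le_antisymm
    · rw [closure_le]
      rintro _ ⟨c, rfl⟩
      by_cases hc : c = a
      · subst hc
        rw [nie_apply, Function.update_self]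
        exact mul_mem (hv _) (hv _)
      · rw [nie_apply, Function.update_of_ne hc]
        exact hv _
    · rw [closure_le]
      rintro _ ⟨c, rfl⟩
      by_cases hc : c = a
      · subst hc
        have h1 := mul_mem (hw c) (inv_mem (hw b))
        rw [nie_apply, Function.update_self, Function.update_of_ne hab.symm, mul_inv_cancel_right] at h1
        exact h1
      · have h1 := hw c
        rw [nie_apply, Function.update_of_ne hc] at h1
        exact h1

theorem comm_apply {γ δ : Equiv.Perm (Fin 3 → G)} (hγ : γ ∈ Gam G) (hδ : δ ∈ Gam G) {v : Fin 3 → G} {g k : G}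
    (h1 : γ v = ac g v) (h2 : δ v = ac k v) : (γ * δ * γ⁻¹ * δ⁻¹) v = ac ⁅k⁻¹, g⁻¹⁆ v := by
  have h3 : γ⁻¹ v = ac g⁻¹ v := by
    apply γ.injective
    rw [hγ.1, h1, ← ac_mul]
    simp [ac_one]
  have h4 : δ⁻¹ v = ac k⁻¹ v := by
    apply δ.injective
    rw [hδ.1, h2, ← ac_mul]
    simp [ac_one]
  simp only [Equiv.Perm.mul_apply]
  rw [h4, (inv_mem hγ).1, h3, hδ.1, hδ.1, h2, hγ.1, hγ.1, hγ.1, h1, ← ac_mul, ← ac_mul, ← ac_mul,
    commutatorElement_def, inv_inv, inv_inv]

/-- a solvable group can not imitate all Nielsen moves -/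
theorem eq_one_of_nie {H : Subgroup G} (hH : Group.IsSolvable H) {v : Fin 3 → G}
    (h0 : ∀ a b hab, ∃ h ∈ H, nie a b hab v = ac h v) : v = 1 := by
  have key : ∀ k : ℕ, ∀ a b hab, ∃ h : H, h ∈ derivedSeries H k ∧ nie a b hab v = ac (h : G) v := by
    intro k
    induction k with
    | zero =>
      intro a b hab
      obtain ⟨h, hh, e⟩ := h0 a b hab
      exact ⟨⟨h, hh⟩, by simp, e⟩
    | succ k ih =>
      intro a c hac
      obtain ⟨b, hab, hbc⟩ := exists_third a c hac
      obtain ⟨g, hg, e1⟩ := ih a b hab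
      obtain ⟨l, hl, e2⟩ := ih b c hbc
      refine ⟨⁅l⁻¹, g⁻¹⁆, ?_, ?_⟩
      · rw [derivedSeries_succ]
        exact commutator_mem_commutator (inv_mem hl) (inv_mem hg)
      · rw [nie_comm hab hbc hac, comm_apply (nie_mem a b hab) (nie_mem b c hbc) e1 e2]
        rfl
  obtain ⟨k, hk⟩ := hH
  funext b
  obtain ⟨a, hab⟩ := exists_other b
  obtain ⟨h, hh, e⟩ := key k a b hab
  rw [hk, mem_bot] at hh
  rw [hh, OneMemClass.coe_one, ac_one] at e
  have h1 := congrFun e a
  rw [nie_apply, Function.update_self] at h1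
  exact mul_eq_left.1 h1

/-- the moves imitated by `H` -/
def Imi (H : Subgroup G) (v : Fin 3 → G) : Subgroup (Gam G) where
  carrier := {γ | ∃ h ∈ H, γ.1 v = ac h v}
  one_mem' := ⟨1, one_mem _, (ac_one v).symm⟩
  mul_mem' := by
    rintro γ δ ⟨g, hg, e1⟩ ⟨k, hk, e2⟩
    refine ⟨k * g, mul_mem hk hg, ?_⟩
    rw [Subgroup.coe_mul, Equiv.Perm.mul_apply, e2, γ.2.1, e1, ac_mul]
  inv_mem' := by
    rintro γ ⟨g, hg, e1⟩
    refine ⟨g⁻¹, inv_mem hg, γ.1.injective ?_⟩
    rw [γ.2.1, e1, ← ac_mul]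
    simp [ac_one]

/-- **Recolouring.** -/
theorem exists_three [Finite G] {H : Subgroup G} (hH : Group.IsSolvable H) {v : Fin 3 → G} (hv : v ≠ 1) :
    ∃ w : Fin 3 → Fin 3 → G, (∀ s, closure (Set.range (w s)) = closure (Set.range v)) ∧
      ∀ s t, ∀ h ∈ H, ac h (w s) = w t → s = t := by
  classical
  have h3 : 3 ≤ (Imi H v).index := by
    by_contra hcon
    have h0 : (Imi H v).index ≠ 0 := index_ne_zero_of_finite
    apply hv
    refine eq_one_of_nie hH fun a c hac => ?_
    have h1 : (⟨nie a c hac, nie_mem a c hac⟩ : Gam G) ∈ Imi H v := by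
      by_cases h1 : (Imi H v).index = 1
      · rw [index_eq_one] at h1
        rw [h1]
        exact mem_top _
      · have h2 : (Imi H v).index = 2 := by omega
        obtain ⟨b, hab, hbc⟩ := exists_third a c hac
        have e : (⟨nie a c hac, nie_mem a c hac⟩ : Gam G) = ⟨nie a b hab, nie_mem a b hab⟩ *
            ⟨nie b c hbc, nie_mem b c hbc⟩ * (⟨nie a b hab, nie_mem a b hab⟩ : Gam G)⁻¹ *
            (⟨nie b c hbc, nie_mem b c hbc⟩ : Gam G)⁻¹ := Subtype.ext (nie_comm hab hbc hac)
        rw [e]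
        simp only [mul_mem_iff_of_index_two h2, inv_mem_iff]
        tauto
    exact h1
  have _ := Fintype.ofFinite (Gam G ⧸ Imi H v)
  have h3' : Fintype.card (Fin 3) ≤ Fintype.card (Gam G ⧸ Imi H v) := by
    rw [Fintype.card_fin, ← Nat.card_eq_fintype_card]
    exact h3
  obtain ⟨f⟩ := Function.Embedding.nonempty_of_card_le h3'
  refine ⟨fun s => ((f s).out).1 v, fun s => ((f s).out).2.2 v, fun s t h hh e => ?_⟩
  apply f.injective
  rw [← QuotientGroup.out_eq' (f s), ← QuotientGroup.out_eq' (f t)]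
  refine QuotientGroup.eq.2 ⟨h, hh, ((f s).out).1.injective ?_⟩
  rw [((f s).out).2.1, e]
  simp

/-- **Recolouring modulo a subgroup.** -/
theorem exists_three_mod [Finite G] {N V H : Subgroup G} (hH : Group.IsSolvable H) (hNV : N ≤ V) (hne : N ≠ V)
    (hV : V ≤ normalizer (N : Set G)) (hHN : H ≤ normalizer (N : Set G)) {v : Fin 3 → G} (hv : ∀ a, v a ∈ V) :
    ∃ w : Fin 3 → Fin 3 → G, (∀ s a, w s a ∈ V) ∧
      (∀ s, ∀ k ∈ normalizer (N : Set G), (∀ a, (w s a)⁻¹ * (k * w s a * k⁻¹) ∈ N) →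
        ∀ a, (v a)⁻¹ * (k * v a * k⁻¹) ∈ N) ∧
      ∀ s t, ∀ h ∈ H, (∀ a, (w t a)⁻¹ * (h * w s a * h⁻¹) ∈ N) → s = t := by
  classical
  -- without loss of generality `v` is not trivial modulo `N`
  have main : ∀ v : Fin 3 → G, (∀ a, v a ∈ V) → (∃ a, v a ∉ N) → ∃ w : Fin 3 → Fin 3 → G, (∀ s a, w s a ∈ V) ∧
      (∀ s, ∀ k ∈ normalizer (N : Set G), (∀ a, (w s a)⁻¹ * (k * w s a * k⁻¹) ∈ N) →
        ∀ a, (v a)⁻¹ * (k * v a * k⁻¹) ∈ N) ∧
      ∀ s t, ∀ h ∈ H, (∀ a, (w t a)⁻¹ * (h * w s a * h⁻¹) ∈ N) → s = t := by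
    intro v hv hvN
    set L := normalizer (N : Set G) with hL
    have hn : (N.subgroupOf L).Normal := normal_in_normalizer
    let π : L →* L ⧸ N.subgroupOf L := QuotientGroup.mk' _
    have hπ : ∀ a b : L, π a = π b ↔ (a : G)⁻¹ * b ∈ N := fun a b => QuotientGroup.eq
    let v' : Fin 3 → L ⧸ N.subgroupOf L := fun a => π ⟨v a, hV (hv a)⟩
    have hv' : v' ≠ 1 := by
      intro h
      obtain ⟨a, ha⟩ := hvN
      have h1 : π 1 = π ⟨v a, hV (hv a)⟩ := by
        rw [map_one]
        exact (congrFun h a).symm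
      rw [hπ] at h1
      exact ha (by simpa using h1)
    have hsol : Group.IsSolvable ((H.subgroupOf L).map π) := by
      have h1 : Group.IsSolvable (H.subgroupOf L) :=
        Group.isSolvable_of_surjective (f := (subgroupOfEquivOfLe hHN).symm.toMonoidHom)
          (subgroupOfEquivOfLe hHN).symm.surjective
      exact Group.isSolvable_of_surjective (π.subgroupMap_surjective _)
    obtain ⟨w', hw1, hw2⟩ := exists_three hsol hv'
    have hlift : ∀ s a, ∃ y : L, (y : G) ∈ V ∧ π y = w' s a := by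
      intro s a
      have h1 : w' s a ∈ closure (Set.range v') := by
        rw [← hw1 s]
        exact subset_closure ⟨a, rfl⟩
      have h2 : closure (Set.range v') ≤ (V.subgroupOf L).map π := by
        rw [closure_le]
        rintro _ ⟨b, rfl⟩
        exact ⟨⟨v b, hV (hv b)⟩, hv b, rfl⟩
      obtain ⟨y, hy, e⟩ := h2 h1
      exact ⟨y, hy, e⟩
    choose y hy1 hy2 using hlift
    refine ⟨fun s a => y s a, hy1, fun s k hk hf a => ?_, fun s t h hh hf => ?_⟩
    · have h1 : closure (Set.range (w' s)) ≤ centralizer {π ⟨k, hk⟩} := by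
        rw [closure_le]
        rintro _ ⟨b, rfl⟩
        rw [SetLike.mem_coe, mem_centralizer_singleton_iff, ← hy2]
        have h2 : π (y s b) = π (⟨k, hk⟩ * y s b * (⟨k, hk⟩ : L)⁻¹) := (hπ _ _).2 (hf b)
        conv_lhs => rw [h2]
        simp
      rw [hw1 s] at h1
      have h2 := h1 (subset_closure ⟨a, rfl⟩)
      rw [mem_centralizer_singleton_iff] at h2
      have h3 : π ⟨v a, hV (hv a)⟩ = π (⟨k, hk⟩ * ⟨v a, hV (hv a)⟩ * (⟨k, hk⟩ : L)⁻¹) := by
        rw [map_mul, map_mul, map_inv, eq_mul_inv_iff_mul_eq]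
        exact h2
      exact (hπ _ _).1 h3
    · refine hw2 s t (π ⟨h, hHN hh⟩) ⟨⟨h, hHN hh⟩, hh, rfl⟩ ?_
      funext a
      have h2 : π (y t a) = π (⟨h, hHN hh⟩ * y s a * (⟨h, hHN hh⟩ : L)⁻¹) := (hπ _ _).2 (hf a)
      rw [← hy2 t a, h2, map_mul, map_mul, map_inv, hy2]
      rfl
  by_cases hvN : ∃ a, v a ∉ N
  · exact main v hv hvN
  · push Not at hvN
    obtain ⟨z, hz, hzN⟩ : ∃ z ∈ V, z ∉ N := by
      by_contra hcon
      push Not at hcon
      exact hne (le_antisymm hNV hcon)
    obtain ⟨w, h1, -, h3⟩ := main (fun _ => z) (fun _ => hz) ⟨0, hzN⟩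
    exact ⟨w, h1, fun s k hk _ a => mul_mem (inv_mem (hvN a)) ((mem_normalizer_iff.1 hk _).1 (hvN a)), h3⟩

end Nielsen

end Cfsg.Agent.SB.Par
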