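import Cfsg.Agent.SB.Basic
import Cfsg.Agent.SB.Par.Nielsen
import Cfsg.Agent.Lib.NilpotentCoprime

/-!
# S5765, parabolic case: the group theoretic end game (helper64)

`S = V D`, `V` a normal `p`-subgroup, `D = S ∩ S^x`.

* `fitReg_of` : `D` acts faithfully on `V` and normalises no non-trivial `p`-subgroup of itself: `FitReg`;
* `seven_of_split` : `S` permutes at most three pairwise comaximal subgroups `N i` of `V` with non-trivial intersection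
  `M`, and the kernel `D₀` of `D` has these properties on `V / M`: `Seven`.
-/

set_option autoImplicit false

namespace Cfsg.Agent.SB.Par

open Subgroup Cfsg Cfsg.Agent.H786.FC

universe u

/-- `p'`-elements of the Fitting subgroup centralise normal `p`-subgroups -/
theorem exists_pow_comm {G : Type*} [Group G] [Finite G] {p : ℕ} [hp : Fact p.Prime] {V : Subgroup G} (hV : V.Normal)
    (hVp : IsPGroup p V) {m : ℕ} (hm : m ≠ 0) :
    ∃ k : ℕ, ∀ f ∈ fittingSubgroup G, f ^ m = 1 → ∀ v ∈ V, f ^ p ^ k * v = v * f ^ p ^ k := by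
  obtain ⟨k, m', hm', e⟩ := Nat.exists_eq_pow_mul_and_not_dvd hm p hp.out.ne_one
  refine ⟨k, fun f hf hfm v hv => ?_⟩
  have hn : Group.IsNilpotent (fittingSubgroup G) := Lib.Cores.fittingSubgroup_isNilpotent
  have hVF : V ≤ fittingSubgroup G := Lib.Cores.le_fittingSubgroup hV hVp.isNilpotent
  obtain ⟨j, hj⟩ := hVp ⟨v, hv⟩
  have h1 : (⟨f ^ p ^ k, pow_mem hf _⟩ : fittingSubgroup G) ^ m' = 1 := by
    apply Subtype.ext
    show (f ^ p ^ k) ^ m' = 1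
    rw [← pow_mul, ← e, hfm]
  have h2 : (⟨v, hVF hv⟩ : fittingSubgroup G) ^ p ^ j = 1 :=
    Subtype.ext (show v ^ p ^ j = 1 from congrArg Subtype.val hj)
  have h3 : m'.Coprime (p ^ j) := (Nat.Coprime.pow_left j ((Nat.Prime.coprime_iff_not_dvd hp.out).2 hm')).symm
  exact congrArg Subtype.val (Lib.NilpotentCoprime.commute_of_pow_eq_one h3 h1 h2).eq

variable {A : Type u} [Group A] [Finite A] {T S V : Subgroup A} {x : A} {p : ℕ} [Fact p.Prime]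

/-- `D = S ∩ S^x` -/
def DD (S : Subgroup A) (x : A) : Subgroup A := S ⊓ S.comap (MulAut.conj x⁻¹).toMonoidHom

omit [Finite A] in
theorem mem_DD {k : A} : k ∈ DD S x ↔ k ∈ S ∧ x⁻¹ * k * x ∈ S := by
  simp [DD]

theorem fitReg_of (hx : x ∈ T) (hVS : V ≤ S) (hVn : ∀ s ∈ S, ∀ v ∈ V, s * v * s⁻¹ ∈ V) (hVp : IsPGroup p V)
    (H1 : ∀ E : Subgroup A, E ≤ DD S x → IsPGroup p E → (∀ d ∈ DD S x, ∀ e ∈ E, d * e * d⁻¹ ∈ E) → E = ⊥)
    (H2 : ∀ k ∈ DD S x, (∀ v ∈ V, k * v = v * k) → k = 1) : FitReg T S := by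
  have hFn : (fittingSubgroup S).Normal := Lib.Cores.fittingSubgroup_normal
  have hn : (V.subgroupOf S).Normal := ⟨fun v hv s => hVn s s.2 v hv⟩
  obtain ⟨k, hk⟩ := exists_pow_comm hn (hVp.comap_subtype) (m := Nat.card S) Nat.card_pos.ne'
  have hE := H1 ((fittingSubgroup S).map S.subtype ⊓ DD S x) inf_le_right ?_ ?_
  · refine ⟨x, hx, fun v hv hvx => Subtype.ext ?_⟩
    have h1 : (v : A) ∈ (fittingSubgroup S).map S.subtype ⊓ DD S x := ⟨⟨v, hv, rfl⟩, mem_DD.2 ⟨v.2, hvx⟩⟩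
    rwa [hE, mem_bot] at h1
  · rintro ⟨_, ⟨f, hf, rfl⟩, hfD⟩
    refine ⟨k, Subtype.ext (H2 _ (pow_mem hfD _) fun v hv => ?_)⟩
    exact congrArg Subtype.val (hk f hf pow_card_eq_one' ⟨v, hVS hv⟩ hv)
  · rintro d hd _ ⟨⟨f, hf, rfl⟩, hfD⟩
    exact ⟨⟨_, hFn.conj_mem f hf ⟨d, (mem_DD.1 hd).1⟩, rfl⟩, (DD S x).mul_mem (mul_mem hd hfD) (inv_mem hd)⟩

omit [Finite A] [Fact p.Prime] in
/-- chinese remainder theorem -/
theorem crt {O : Type*} [Finite O] {N : O → Subgroup A} (hn : ∀ i, V ≤ normalizer (N i : Set A))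
    (hco : ∀ i, ∀ v ∈ V, ∃ w ∈ V, w⁻¹ * v ∈ N i ∧ ∀ j, j ≠ i → w ∈ N j) {f : O → A} (hf : ∀ i, f i ∈ V) :
    ∃ u ∈ V, ∀ i, u⁻¹ * f i ∈ N i := by
  classical
  have _ := Fintype.ofFinite O
  have key : ∀ s : Finset O, ∃ u ∈ V, (∀ i ∈ s, u⁻¹ * f i ∈ N i) ∧ ∀ j, j ∉ s → u ∈ N j := by
    intro s
    induction s using Finset.induction_on with
    | empty => exact ⟨1, one_mem _, by simp, fun j _ => one_mem _⟩
    | insert i s hi ih =>
      obtain ⟨u, hu, h1, h2⟩ := ih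
      obtain ⟨w, hw, h3, h4⟩ := hco i (f i) (hf i)
      refine ⟨u * w, mul_mem hu hw, fun j hj => ?_, fun j hj => ?_⟩
      · rcases Finset.mem_insert.1 hj with rfl | hj
        · have h5 := (mem_normalizer_iff.1 (hn j (inv_mem hw)) u⁻¹).1 (inv_mem (h2 j hi))
          have e : (u * w)⁻¹ * f j = w⁻¹ * u⁻¹ * w⁻¹⁻¹ * (w⁻¹ * f j) := by group
          rw [e]
          exact mul_mem h5 h3
        · have e : (u * w)⁻¹ * f j = w⁻¹ * (u⁻¹ * f j) := by group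
          rw [e]
          exact mul_mem (inv_mem (h4 j fun h => hi (h ▸ hj))) (h1 j hj)
      · rw [Finset.mem_insert, not_or] at hj
        exact mul_mem (h2 j hj.2) (h4 j hj.1)
  obtain ⟨u, hu, h1, -⟩ := key Finset.univ
  exact ⟨u, hu, fun i => h1 i (Finset.mem_univ i)⟩

/-- a regular triple for the kernel `D₀` (Seress) -/
theorem exists_triple (hS : Group.IsSolvable S) {M S₀ : Subgroup A} (hVS : V ≤ S₀) (hS₀ : S₀ ≤ S)
    (hS₀n : ∀ s ∈ S, ∀ v ∈ S₀, s * v * s⁻¹ ∈ S₀)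
    (hVn : ∀ s ∈ S, ∀ v ∈ V, s * v * s⁻¹ ∈ V) (hVp : IsPGroup p V) (hMn : ∀ s ∈ S, ∀ v ∈ M, s * v * s⁻¹ ∈ M)
    (hSD : ∀ s ∈ S, ∃ v ∈ V, ∃ d ∈ DD S x, s = v * d)
    (H1 : ∀ E : Subgroup A, E ≤ DD S x ⊓ S₀ → IsPGroup p E → (∀ d ∈ DD S x, ∀ e ∈ E, d * e * d⁻¹ ∈ E) → E = ⊥)
    (H2 : ∀ k ∈ DD S x ⊓ S₀, (∀ v ∈ V, v⁻¹ * (k * v * k⁻¹) ∈ M) → k = 1) :
    ∃ v : Fin 3 → A, (∀ a, v a ∈ V) ∧ ∀ k ∈ DD S x ⊓ S₀, (∀ a, (v a)⁻¹ * (k * v a * k⁻¹) ∈ M) → k = 1 := by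
  have hMn' : (M.subgroupOf S).Normal := ⟨fun v hv s => hMn s s.2 v hv⟩
  have hVn' : (V.subgroupOf S).Normal := ⟨fun v hv s => hVn s s.2 v hv⟩
  have hS₀n' : (S₀.subgroupOf S).Normal := ⟨fun v hv s => hS₀n s s.2 v hv⟩
  let π : S →* S ⧸ M.subgroupOf S := QuotientGroup.mk' _
  have hπs : Function.Surjective π := QuotientGroup.mk'_surjective _
  have hπ : ∀ a b : S, π a = π b ↔ (a : A)⁻¹ * b ∈ M := fun a b => QuotientGroup.eq
  have hsolq : Group.IsSolvable (S ⧸ M.subgroupOf S) := Group.isSolvable_of_surjective hπs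
  have hFn : (fittingSubgroup (S ⧸ M.subgroupOf S)).Normal := Lib.Cores.fittingSubgroup_normal
  have hVq : ((V.subgroupOf S).map π).Normal := hVn'.map π hπs
  have hVqp : IsPGroup p ((V.subgroupOf S).map π) := (hVp.comap_subtype).map π
  have hG₀ : ((S₀.subgroupOf S).map π).Normal := hS₀n'.map π hπs
  have hVF : (V.subgroupOf S).map π ≤ fittingSubgroup (S ⧸ M.subgroupOf S) :=
    Lib.Cores.le_fittingSubgroup hVq hVqp.isNilpotent
  obtain ⟨k, hk⟩ := exists_pow_comm hVq hVqp (m := Nat.card S) Nat.card_pos.ne'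
  have hcomm : ∀ k v : S, π k * π v = π v * π k ↔ (v : A)⁻¹ * (k * v * (k : A)⁻¹) ∈ M := by
    intro k v
    have h1 := hπ v (k * v * k⁻¹)
    rw [map_mul, map_mul, map_inv, eq_mul_inv_iff_mul_eq, eq_comm] at h1
    exact h1
  have hE := H1 (((fittingSubgroup (S ⧸ M.subgroupOf S)).comap π).map S.subtype ⊓ (DD S x ⊓ S₀)) inf_le_right ?_ ?_
  rotate_left
  · rintro ⟨_, ⟨f, hf, rfl⟩, hfD⟩
    refine ⟨k, Subtype.ext (H2 _ (pow_mem hfD _) fun v hv => ?_)⟩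
    have h1 := hk (π f) hf (by rw [← map_pow, pow_card_eq_one', map_one]) (π ⟨v, hS₀ (hVS hv)⟩) ⟨_, hv, rfl⟩
    rw [← map_pow] at h1
    exact (hcomm _ _).1 h1
  · rintro d hd _ ⟨⟨f, hf, rfl⟩, hfD, hf0⟩
    refine ⟨⟨⟨d, (mem_DD.1 hd).1⟩ * f * (⟨d, (mem_DD.1 hd).1⟩ : S)⁻¹, ?_, rfl⟩,
      (DD S x).mul_mem (mul_mem hd hfD) (inv_mem hd), hS₀n d (mem_DD.1 hd).1 _ hf0⟩
    exact (hFn.comap π).conj_mem f hf _
  have hone : ∀ d : S, (d : A) ∈ DD S x ⊓ S₀ → π d ∈ fittingSubgroup (S ⧸ M.subgroupOf S) → (d : A) = 1 := by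
    intro d hd hF
    have h1 : (d : A) ∈ ((fittingSubgroup (S ⧸ M.subgroupOf S)).comap π).map S.subtype ⊓ (DD S x ⊓ S₀) :=
      ⟨⟨d, hF, rfl⟩, hd⟩
    rwa [hE, mem_bot] at h1
  have hFeq := Lib.Cores.map_subtype_fittingSubgroup hG₀
  have hlift : ∀ w ∈ fittingSubgroup ((S₀.subgroupOf S).map π), ∃ v : S, (v : A) ∈ V ∧ π v = w := by
    intro w hw
    have h1 : (w : S ⧸ M.subgroupOf S) ∈ (S₀.subgroupOf S).map π ⊓ fittingSubgroup (S ⧸ M.subgroupOf S) := by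
      rw [← hFeq]
      exact ⟨w, hw, rfl⟩
    obtain ⟨⟨s, hs, e⟩, h2⟩ := h1
    obtain ⟨v, hv, d, hd, e2⟩ := hSD s s.2
    have hd0 : d ∈ S₀ := by
      have h3 := mul_mem (inv_mem (hVS hv)) (show (s : A) ∈ S₀ from hs)
      rwa [e2, inv_mul_cancel_left] at h3
    have e3 : s = ⟨v, hS₀ (hVS hv)⟩ * ⟨d, hS₀ hd0⟩ := Subtype.ext e2
    have h4 : π ⟨d, hS₀ hd0⟩ ∈ fittingSubgroup (S ⧸ M.subgroupOf S) := by
      have h5 := mul_mem (inv_mem (hVF ⟨⟨v, hS₀ (hVS hv)⟩, hv, rfl⟩)) h2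
      rwa [← e, e3, map_mul, inv_mul_cancel_left] at h5
    have h6 : d = 1 := hone ⟨d, hS₀ hd0⟩ ⟨hd, hd0⟩ h4
    refine ⟨s, ?_, e⟩
    rw [e2, h6, mul_one]
    exact hv
  obtain ⟨w₁, h1, w₂, h2, w₃, h3, hw⟩ := fit_base (S := (S₀.subgroupOf S).map π)
  obtain ⟨v₁, a1, b1⟩ := hlift w₁ h1
  obtain ⟨v₂, a2, b2⟩ := hlift w₂ h2
  obtain ⟨v₃, a3, b3⟩ := hlift w₃ h3
  refine ⟨![v₁, v₂, v₃], fun a => ?_, fun k hk hf => ?_⟩
  · fin_cases a
    exacts [a1, a2, a3]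
  have hkS : k ∈ S := hS₀ hk.2
  have h4 := hw ⟨π ⟨k, hkS⟩, ⟨k, hkS⟩, hk.2, rfl⟩
    (Subtype.ext (by simpa [← b1] using (hcomm ⟨k, hkS⟩ v₁).2 (hf 0)))
    (Subtype.ext (by simpa [← b2] using (hcomm ⟨k, hkS⟩ v₂).2 (hf 1)))
    (Subtype.ext (by simpa [← b3] using (hcomm ⟨k, hkS⟩ v₃).2 (hf 2)))
  have h5 : π ⟨k, hkS⟩ ∈ (S₀.subgroupOf S).map π ⊓ fittingSubgroup (S ⧸ M.subgroupOf S) := by
    rw [← hFeq]
    exact ⟨_, h4, rfl⟩
  exact hone ⟨k, hkS⟩ hk h5.2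

/-- conjugation by `s` maps `N` onto `N'` -/
def Mv (s : A) (N N' : Subgroup A) : Prop := ∀ v, v ∈ N ↔ s * v * s⁻¹ ∈ N'

omit [Finite A] in
theorem Mv.inv {s : A} {N N' : Subgroup A} (h : Mv s N N') : Mv s⁻¹ N' N := fun v => by
  rw [h]
  simp [mul_assoc]

omit [Finite A] in
theorem Mv.mul {s t : A} {N N' N'' : Subgroup A} (h : Mv s N' N'') (h' : Mv t N N') : Mv (s * t) N N'' := fun v => by
  rw [h', h]
  simp [mul_assoc]

/-- **The end game for several nodes.** -/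
theorem seven_of_split (hT : T.Normal) (hS : Group.IsSolvable S) (hx : x ∈ T) (hVS : V ≤ S)
    (hVn : ∀ s ∈ S, ∀ v ∈ V, s * v * s⁻¹ ∈ V) (hVp : IsPGroup p V) (hxV : ∀ v ∈ V, x⁻¹ * v * x ∈ S → v = 1)
    (hSD : ∀ s ∈ S, ∃ v ∈ V, ∃ d ∈ DD S x, s = v * d) {O : Type*} [Finite O] [Nonempty O] (hO : Nat.card O ≤ 3)
    {N : O → Subgroup A} (hNV : ∀ i, N i ≤ V) (hne : ∀ i, N i ≠ V) (hn : ∀ i, V ≤ normalizer (N i : Set A))
    (hperm : ∀ s ∈ S, ∀ i, ∃ j, Mv s (N i) (N j))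
    (hco : ∀ i, ∀ v ∈ V, ∃ w ∈ V, w⁻¹ * v ∈ N i ∧ ∀ j, j ≠ i → w ∈ N j) (hM : ⨅ i, N i ≠ ⊥)
    (H1 : ∀ E : Subgroup A, E ≤ DD S x ⊓ ⨅ i, normalizer (N i : Set A) → IsPGroup p E →
      (∀ d ∈ DD S x, ∀ e ∈ E, d * e * d⁻¹ ∈ E) → E = ⊥)
    (H2 : ∀ k ∈ DD S x ⊓ ⨅ i, normalizer (N i : Set A), (∀ v ∈ V, v⁻¹ * (k * v * k⁻¹) ∈ ⨅ i, N i) → k = 1) :
    Seven T S := by
  classical
  have _ := Fintype.ofFinite O
  have hMn : ∀ s ∈ S, ∀ v ∈ ⨅ i, N i, s * v * s⁻¹ ∈ ⨅ i, N i := by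
    intro s hs v hv
    rw [mem_iInf] at hv ⊢
    intro i
    obtain ⟨j, hj⟩ := hperm s⁻¹ (inv_mem hs) i
    have h1 := (hj.inv v).1 (hv j)
    rwa [inv_inv] at h1
  have hMV : ⨅ i, N i ≤ V := (iInf_le _ (Classical.arbitrary O)).trans (hNV _)
  have hDS : DD S x ≤ S := inf_le_left
  have hS₀ : ∀ s ∈ S, ∀ k ∈ S ⊓ ⨅ i, normalizer (N i : Set A), s * k * s⁻¹ ∈ S ⊓ ⨅ i, normalizer (N i : Set A) := by
    intro s hs k hk
    refine ⟨S.mul_mem (mul_mem hs hk.1) (inv_mem hs), mem_iInf.2 fun i => ?_⟩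
    obtain ⟨j, hj⟩ := hperm s⁻¹ (inv_mem hs) i
    have h1 : Mv k (N j) (N j) := mem_normalizer_iff.1 (mem_iInf.1 hk.2 j)
    have h2 := (hj.inv.mul h1).mul hj
    rw [inv_inv] at h2
    exact mem_normalizer_iff.2 h2
  obtain ⟨v, hv, hreg⟩ := exists_triple (x := x) (M := ⨅ i, N i) (S₀ := S ⊓ ⨅ i, normalizer (N i : Set A)) hS
    (le_inf hVS (le_iInf hn)) inf_le_left hS₀ hVn hVp hMn hSD
    (fun E hE => H1 E (hE.trans (inf_le_inf_left _ inf_le_right)))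
    (fun k hk => H2 k ⟨hk.1, hk.2.2⟩)
  -- recolouring
  have hrec := fun i => exists_three_mod (N := N i) (V := V) (H := S ⊓ normalizer (N i : Set A))
    (Group.isSolvable_of_isSolvable_injective (f := inclusion inf_le_left) (inclusion_injective _)) (hNV i) (hne i)
    (hn i) inf_le_right hv
  choose w hw1 hw2 hw3 using hrec
  let r : Setoid (O × Fin 3) :=
    { r := fun y z => ∃ d ∈ S, Mv d (N y.1) (N z.1) ∧ ∀ a, (w z.1 z.2 a)⁻¹ * (d * w y.1 y.2 a * d⁻¹) ∈ N z.1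
      iseqv :=
        { refl := fun y => ⟨1, one_mem _, fun v => by simp, fun a => by simp⟩
          symm := by
            rintro y z ⟨d, hd, h1, h2⟩
            refine ⟨d⁻¹, inv_mem hd, h1.inv, fun a => ?_⟩
            have h3 := inv_mem ((h1.inv _).1 (h2 a))
            have e : (d⁻¹ * ((w z.1 z.2 a)⁻¹ * (d * w y.1 y.2 a * d⁻¹)) * d⁻¹⁻¹)⁻¹ =
                (w y.1 y.2 a)⁻¹ * (d⁻¹ * w z.1 z.2 a * d⁻¹⁻¹) := by group
            rwa [e] at h3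
          trans := by
            rintro y z u ⟨d, hd, h1, h2⟩ ⟨d', hd', h3, h4⟩
            refine ⟨d' * d, mul_mem hd' hd, h3.mul h1, fun a => ?_⟩
            have h5 := mul_mem (h4 a) ((h3 _).1 (h2 a))
            have e : (w u.1 u.2 a)⁻¹ * (d' * w z.1 z.2 a * d'⁻¹) *
                (d' * ((w z.1 z.2 a)⁻¹ * (d * w y.1 y.2 a * d⁻¹)) * d'⁻¹) =
                (w u.1 u.2 a)⁻¹ * (d' * d * w y.1 y.2 a * (d' * d)⁻¹) := by group
            rwa [e] at h5 } }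
  let t : O → Finset (Quotient r) := fun i => Finset.univ.image fun s : Fin 3 => Quotient.mk r (i, s)
  have ht : ∀ i, (t i).card = 3 := by
    intro i
    rw [Finset.card_image_of_injective _ ?_, Finset.card_univ, Fintype.card_fin]
    intro s s' h
    obtain ⟨d, hd, h1, h2⟩ := Quotient.exact h
    exact hw3 i s s' d ⟨hd, mem_normalizer_iff.2 h1⟩ h2
  obtain ⟨f, hf1, hf2⟩ := (Finset.all_card_le_biUnion_card_iff_exists_injective t).1 fun s => by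
    rcases s.eq_empty_or_nonempty with rfl | ⟨i, hi⟩
    · simp
    · calc s.card ≤ Fintype.card O := Finset.card_le_univ s
        _ ≤ 3 := by rw [← Nat.card_eq_fintype_card]; exact hO
        _ = (t i).card := (ht i).symm
        _ ≤ (s.biUnion t).card := Finset.card_le_card (Finset.subset_biUnion_of_mem t hi)
  have hc : ∀ i, ∃ s : Fin 3, Quotient.mk r (i, s) = f i := fun i => by
    obtain ⟨s, -, e⟩ := Finset.mem_image.1 (hf2 i)
    exact ⟨s, e⟩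
  choose c hc using hc
  have hu := fun a => crt hn hco (f := fun i => w i (c i) a) fun i => hw1 i (c i) a
  choose u hu1 hu2 using hu
  refine seven_of_trick_mod hT hVS hVn hMV hMn hM hx hxV u hu1 fun k hk hkx hf => ?_
  have key : ∀ i j, Mv k (N i) (N j) → ∀ a, (w j (c j) a)⁻¹ * (k * w i (c i) a * k⁻¹) ∈ N j := by
    intro i j h a
    have h1 := mul_mem (mul_mem (inv_mem (hu2 a j)) (mem_iInf.1 (hf a) j)) ((h _).1 (hu2 a i))
    have e : ((u a)⁻¹ * w j (c j) a)⁻¹ * ((u a)⁻¹ * (k * u a * k⁻¹)) * (k * ((u a)⁻¹ * w i (c i) a) * k⁻¹) =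
        (w j (c j) a)⁻¹ * (k * w i (c i) a * k⁻¹) := by group
    rwa [e] at h1
  have hfix : ∀ i, Mv k (N i) (N i) := by
    intro i
    obtain ⟨j, hj⟩ := hperm k hk i
    have h1 : f i = f j := by
      rw [← hc i, ← hc j]
      exact Quotient.sound ⟨k, hk, hj, key i j hj⟩
    rw [← hf1 h1] at hj
    exact hj
  refine hreg k ⟨mem_DD.2 ⟨hk, hkx⟩, hk, mem_iInf.2 fun i => mem_normalizer_iff.2 (hfix i)⟩ fun a => ?_
  exact mem_iInf.2 fun i => hw2 i (c i) k (mem_normalizer_iff.2 (hfix i)) (key i i (hfix i)) a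

end Cfsg.Agent.SB.Par
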