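import Cfsg.Agent.SB.Par.Ctx
import Cfsg.Agent.SB.Par.Split

/-!
# S5765, parabolic case: `J` fixed by the opposition (helper64)

`Ctx.good_of_op` : if `w₀` maps `P_J` onto the opposite parabolic subgroup and `Irr` holds for a node outside `J`, then
`Good`.
-/

set_option autoImplicit false
set_option linter.unusedSectionVars false

namespace Cfsg.Agent.SB.Par

open CoxeterSystem Cfsg.Agent.ChevalleyStructure.CoxeterGeom Cfsg.Agent.Tits.Roots Cfsg.Agent.Tits.Core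
  Cfsg.Agent.Tits.Exchange Cfsg.Agent.Nodes.Reps Cfsg.Agent.Nodes.BNOf Cfsg.Agent.Nodes.StabComb
  Cfsg.Agent.Nodes.Bruhat Cfsg.Agent.Nodes.OppDec Cfsg.Agent.Nodes.LeviDec Cfsg.Agent.Nodes.NormalForm
  Cfsg.Agent.KFacts.RgdOpp Cfsg.Agent.KFacts.RgdAut Cfsg.Agent.KFacts.RgdDiag Cfsg.Agent.KFacts.RgdRigid
  Cfsg.Agent.KFacts.RgdVJ Cfsg.Agent.KFacts.RgdCharP Cfsg.Agent.H786.FC

variable {I W Y : Type*} [Fintype I] [DecidableEq I] [Group W] [Group Y] {M : CoxeterMatrix I}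
  {cs : CoxeterSystem M W} {A : I → I → ℤ} {h : IsCartan M A} {p : ℕ} {T : Subgroup Y} {n : I → Y}
  {X : (I → ℤ) → Subgroup Y}

/-- every `p`-automorphism which fixes `P` and centralises `T` centralises `P` -/
def Irr (p : ℕ) (T P : Subgroup Y) : Prop :=
  ∀ β : MulAut Y, (∃ k : ℕ, β ^ p ^ k = 1) → Fix β P → (∀ t ∈ T, β t = t) → ∀ x ∈ P, β x = x

theorem conj_injective' (hc : Subgroup.center Y = ⊥) : Function.Injective (MulAut.conj : Y →* MulAut Y) :=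
  (injective_iff_map_eq_one _).2 fun _ => conj_inj hc

theorem mv_iff (hc : Subgroup.center Y = ⊥) {s : MulAut Y} {H H' : Subgroup Y} :
    Mv s (H.map MulAut.conj) (H'.map MulAut.conj) ↔ Mp s H H' := by
  refine ⟨fun h1 x => ?_, fun h1 v => ⟨?_, ?_⟩⟩
  · have := h1 (MulAut.conj x)
    rwa [conj_conj', Subgroup.mem_map_iff_mem (conj_injective' hc), Subgroup.mem_map_iff_mem (conj_injective' hc),
      Iff.comm] at this
  · rintro ⟨x, hx, rfl⟩
    exact ⟨s x, (h1 x).2 hx, (conj_conj' s x).symm⟩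
  · rintro ⟨y, hy, e⟩
    refine ⟨s⁻¹ y, (h1.inv y).2 hy, ?_⟩
    rw [← conj_conj', e]
    group

theorem exists_full [Finite W] [Nonempty I] (hc : Conn M) : ∃ r, IsRoot cs h r ∧ 0 ≤ r ∧ ∀ i, 0 < r i := by
  obtain ⟨i₀⟩ := ‹Nonempty I›
  obtain ⟨r, hr, hmax⟩ := Set.exists_max_image (RGD.Pos cs h) ht
    ((RGD.finite_roots (cs := cs) (h := h)).subset fun x hx => hx.1) ⟨sr i₀, isRoot_sr cs h i₀, sr_nonneg i₀⟩
  refine ⟨r, hr.1, hr.2, fun i => ?_⟩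
  by_contra hi
  have h0 : ∃ j, 0 < r j := by
    by_contra hcon
    push Not at hcon
    exact hr.1.ne_zero (le_antisymm hcon hr.2)
  obtain ⟨a, ha, c, hc', hac⟩ := hc {j | 0 < r j} h0 (fun h1 => hi (h1 ▸ Set.mem_univ i : i ∈ {j | 0 < r j}))
  have hc0 : r c = 0 := le_antisymm (not_lt.1 hc') (hr.2 c)
  have h1 := pairing_neg h hr.2 hc0 ha (by rwa [M.symmetric])
  have h2 := hmax (rep cs h (cs.simple c) r) ⟨hr.1.act _, hr.1.simple_nonneg hr.2 c fun e => by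
    rw [e, sr_self] at hc0
    exact one_ne_zero hc0⟩
  rw [ht_simple] at h2
  omega

section
variable [Finite W] (R : RGD cs h p T n X)
include R

theorem subset_of_VJ_le {K K' : Set I} (hK : VJ cs h X K ≤ VJ cs h X K') : K' ⊆ K := by
  intro i hi
  by_contra hi'
  obtain ⟨u, hu, hu1⟩ := exists_ne_one R i
  exact hu1 (eq_one_of_mem_LJ_of_mem_VJ R (X_le_LJ' hi hu) (hK (X_le_VJ hi' hu)))

omit [Finite W] in
theorem diag_conj {t : Y} (ht : t ∈ T) : Diag T X (MulAut.conj t) (1 : Equiv.Perm I) where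
  tor := mp_conj_of_mem ht
  pos := fun i => mp_conj (mem_normalizer_iff_cj.2 (R.tor _ (isRoot_sr cs h i) t ht))
  neg := fun i => mp_conj (mem_normalizer_iff_cj.2 (R.tor _ (isRoot_sr cs h i).neg t ht))

theorem mem_VJ_of_mem {J : Set I} {o o' : I} (ho' : o' ≠ o) {u : Y} (h1 : u ∈ UJ cs h X (insert o J))
    (h2 : u ∈ VJ cs h X J) : u ∈ VJ cs h X (insert o' J) := by
  have h3 := KFacts.RgdEx.inf_eq_half R (AddMonoidHom.mk' ht fun x y => RGD.ht_add x y)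
    (S := PosJ cs h (insert o J)) (S' := NotJ cs h J) (fun x hx => ⟨hx.1, RGD.ht_pos hx.1 hx.2.1⟩)
    (fun x hx => ⟨hx.1, RGD.ht_pos hx.1 hx.2.1⟩)
    (fun x hx y hy z hz => ⟨hz.1, btwn_nonneg hz hx.2.1 hy.2.1, fun k hk =>
      btwn_apply_zero hz (hx.2.2 k hk) (hy.2.2 k hk)⟩)
    (fun x hx y hy z hz => ⟨hz.1, btwn_nonneg hz hx.2.1 hy.2.1, by
      obtain ⟨k, hk, h0⟩ := hx.2.2
      exact ⟨k, hk, btwn_apply_pos hz h0 (hy.2.1 k)⟩⟩)
  have h4 : u ∈ RGD.Sup X (PosJ cs h (insert o J) ∩ NotJ cs h J) := by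
    rw [← h3]
    exact ⟨h1, h2⟩
  refine RGD.Sup_mono ?_ h4
  rintro x ⟨⟨hx, h0, hz⟩, -, -, k, hk, hk0⟩
  refine ⟨hx, h0, k, ?_, hk0⟩
  rintro (rfl | hkJ)
  · rw [hz k (by simp [ho', hk])] at hk0
    exact lt_irrefl _ hk0
  · exact hk hkJ

end

namespace Ctx

variable {S : Subgroup (MulAut Y)} {J : Set I} (C : Ctx cs h T X S J)
  [Finite W] [Finite Y] [Fact p.Prime] (R : RGD cs h p T n X)
include C R

/-- no element of `L_J` centralises all the groups `V_J ∩ L_{J ∪ {o}}` -/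
theorem cent_W {c : Y} (hc : c ∈ LJ cs h T X J)
    (hW : ∀ o, o ∉ J → ∀ w ∈ VJ cs h X J ⊓ LJ cs h T X (insert o J), c * w = w * c) : c = 1 := by
  have hn : ∀ l ∈ LJ cs h T X J, ∀ o, ∀ w ∈ VJ cs h X J ⊓ LJ cs h T X (insert o J),
      l⁻¹ * w * l ∈ VJ cs h X J ⊓ LJ cs h T X (insert o J) := by
    intro l hl o w hw
    have h1 := LJ_mono (cs := cs) (h := h) (T := T) (X := X) (Set.subset_insert o J) hl
    refine Subgroup.mem_inf.2 ⟨?_, mul_mem (mul_mem (inv_mem h1) hw.2) h1⟩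
    simpa using (Subgroup.mem_normalizer_iff.1 (LJ_le_normalizer_VJ R J (inv_mem hl)) w).1 hw.1
  set Cw : Y → Prop := fun c => c ∈ LJ cs h T X J ∧
    ∀ o, o ∉ J → ∀ w ∈ VJ cs h X J ⊓ LJ cs h T X (insert o J), c * w = w * c with hCw
  have s0 : ∀ c, Cw c → ∀ l ∈ LJ cs h T X J, Cw (l * c * l⁻¹) := by
    intro c hc l hl
    refine ⟨mul_mem (mul_mem hl hc.1) (inv_mem hl), fun o ho w hw => ?_⟩
    have := hc.2 o ho _ (hn l hl o w hw)
    calc l * c * l⁻¹ * w = l * (c * (l⁻¹ * w * l)) * l⁻¹ := by group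
      _ = w * (l * c * l⁻¹) := by rw [this]; group
  have s1 : ∀ c, Cw c → c ∈ RGD.B cs h T X := by
    intro c hc
    obtain ⟨w, hw, hcell⟩ := exists_cellJ R hc.1
    have key : ∀ o, o ∉ J → ∀ x ∈ NotJ cs h J, x ∈ RootsJ cs h (insert o J) → rep cs h w x = x := by
      obtain ⟨b₁, h1, k, hk, b₂, h2, e⟩ := hcell
      intro o ho x hx hx'
      by_contra hne
      obtain ⟨u, hu, hu1⟩ := (Subgroup.bot_or_exists_ne_one (X x)).resolve_left (X_ne_bot R hx.1)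
      have h3 := hc.2 o ho _ (hn b₂ (BJ_le_LJ h2) o u ⟨RGD.le_Sup hx hu, X_le_LJ hx' hu⟩)
      have h4 : b₂ * b₁ * (k * u * k⁻¹) * (b₂ * b₁)⁻¹ = u := by
        rw [e] at h3
        calc _ = b₂ * (b₁ * k * b₂ * (b₂⁻¹ * u * b₂)) * (b₂⁻¹ * k⁻¹ * b₁⁻¹ * b₂⁻¹) := by group
          _ = u := by rw [h3]; group
      have h5 := NotJ.act hw hx
      have h6 := eq_one_of_conj_X R (mul_mem (BJ_le_B J h2) (BJ_le_B J h1)) h5.1 h5.2.1 hx.1 hx.2.1 hne
        (R.conj_mem hk hx.1 hu) (by rw [h4]; exact hu)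
      exact hu1 (by simpa using h6)
    have key1 : ∀ o, o ∉ J → rep cs h w (sr o) = sr o := fun o ho =>
      key o ho _ (sr_mem_NotJ ho) (PosJ_subset _ (sr_mem_PosJ (Set.mem_insert o J)))
    have hw1 : w = 1 := by
      refine eq_one_of_fix cs h w fun i => ?_
      change rep cs h w (sr i) = sr i
      by_cases hi : i ∈ J
      · obtain ⟨o, ho, hio⟩ := (C.orb R).exists_adj hi
        have h1 := key o ho _ (NotJ.act ((simple_mem_WJ h).2 hi) (sr_mem_NotJ ho))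
          (RootsJ.act ((simple_mem_WJ h).2 (Set.mem_insert_of_mem o hi))
            (PosJ_subset _ (sr_mem_PosJ (Set.mem_insert o J))))
        rw [rep_simple_eq, map_sub, map_smul, key1 o ho, sub_right_inj, pairing_sr0] at h1
        exact smul_right_injective _ (cartan_neg h hio.1 hio.2).ne h1
      · exact key1 i hi
    rw [hw1] at hcell
    exact BJ_le_B J hcell.mem_of_one
  have s2 : ∀ c, Cw c → c ∈ T := by
    intro c hc
    obtain ⟨t, ht, v, hv, e⟩ := mem_TV R (J := J) (c := c) (by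
      intro g hg
      obtain ⟨l, hl, v, hv, rfl⟩ := (mem_PJ R).1 hg
      have h1 : c * v⁻¹ * c⁻¹ ∈ VJ cs h X J :=
        (Subgroup.mem_normalizer_iff.1 (LJ_le_normalizer_VJ R J hc.1) _).1 (inv_mem hv)
      have h2 := (Subgroup.mem_normalizer_iff.1 (LJ_le_normalizer_VJ R J hl) _).1 (mul_mem hv h1)
      have e : l * v * c * (l * v)⁻¹ = l * (v * (c * v⁻¹ * c⁻¹)) * l⁻¹ * (l * c * l⁻¹) := by group
      rw [e]
      exact mul_mem (VJ_le_B J h2) (s1 _ (s0 c hc l hl)))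
    have h1 : v = t⁻¹ * c := by rw [e]; group
    have h2 : v = 1 := eq_one_of_mem_LJ_of_mem_VJ R (by rw [h1]; exact mul_mem (inv_mem (T_le_LJ ht)) hc.1) hv
    rw [e, h2, mul_one]
    exact ht
  have hcT := s2 c ⟨hc, hW⟩
  refine conj_inj C.cen (Diag.eq_one R C.gen (diag_conj R hcT) fun i u hu => ?_)
  rw [MulAut.conj_apply, mul_inv_eq_iff_eq_mul]
  by_cases hi : i ∈ J
  · have h1 := s2 _ (s0 c ⟨hc, hW⟩ u (X_le_LJ' hi hu))
    have h2 : u * c * u⁻¹ * c⁻¹ ∈ X (sr i) ⊓ T := by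
      refine Subgroup.mem_inf.2 ⟨?_, mul_mem h1 (inv_mem hcT)⟩
      have h3 := ((diag_conj R hcT).pos i u⁻¹).2 (inv_mem hu)
      have h4 := mul_mem hu h3
      simpa [mul_assoc] using h4
    rw [X_inf_T R (isRoot_sr cs h i), Subgroup.mem_bot] at h2
    rw [mul_inv_eq_one, mul_inv_eq_iff_eq_mul] at h2
    exact h2.symm
  · exact hW i hi u ⟨X_le_VJ hi hu, X_le_LJ' (Set.mem_insert i J) hu⟩

variable {k : Y} (hk : Rp cs R.nsys (w0 cs) k) (hJ : ∀ i, op cs i ∈ J ↔ i ∈ J)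
include hk hJ

theorem conj_mem_iff {g : Y} :
    (MulAut.conj k)⁻¹ * MulAut.conj g * MulAut.conj k ∈ S ↔ g ∈ PNJ cs h T X J := by
  rw [← map_inv, ← map_mul, ← map_mul, C.par, ← mem_cj, cj_PJ R C.top hk hJ]

theorem conj_mem_DD {g : Y} : MulAut.conj g ∈ DD S (MulAut.conj k) ↔ g ∈ LJ cs h T X J := by
  rw [mem_DD, C.conj_mem_iff R hk hJ, C.par, ← PJ_inf_PNJ R, Subgroup.mem_inf]

omit hJ in
theorem fr_mem_DD {β : MulAut Y} {σ : Equiv.Perm I} (hβ : β ∈ S) (F : Fr cs h T X β σ) :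
    β ∈ DD S (MulAut.conj k) := by
  refine mem_DD.2 ⟨hβ, ?_⟩
  have e : (MulAut.conj k)⁻¹ * β * MulAut.conj k = MulAut.conj (k⁻¹ * β k) * β := by
    rw [map_mul, map_inv, ← conj_conj']
    group
  rw [e]
  exact mul_mem ((C.par _).2 (B_le_PJ (RGD.T_le_B (F.w0_mem R C.top hk)))) hβ

theorem eq_one_of_V {v : Y} (hv : v ∈ VJ cs h X J)
    (h1 : (MulAut.conj k)⁻¹ * MulAut.conj v * MulAut.conj k ∈ S) : v = 1 :=
  eq_one_of_mem_VJ_of_mem_PNJ R hv ((C.conj_mem_iff R hk hJ).1 h1)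

omit hk hJ in
theorem decomp' {s : MulAut Y} (hs : s ∈ S) : ∃ v ∈ VJ cs h X J, ∃ l ∈ LJ cs h T X J, ∃ β ∈ S, ∃ σ,
    Fr cs h T X β σ ∧ (∀ i, σ i ∈ J ↔ i ∈ J) ∧ s = MulAut.conj v * (MulAut.conj l * β) := by
  obtain ⟨g, hg, β, hβ, σ, F, hσ, e⟩ := C.decomp R hs
  obtain ⟨l, hl, v, hv, e'⟩ := (mem_PJ R).1 (inv_mem hg)
  refine ⟨v⁻¹, inv_mem hv, l⁻¹, inv_mem hl, β, hβ, σ, F, hσ, ?_⟩
  rw [e, ← mul_assoc, ← map_mul, ← mul_inv_rev, ← e', inv_inv]

theorem decompD {d : MulAut Y} (hd : d ∈ DD S (MulAut.conj k)) : ∃ l ∈ LJ cs h T X J, ∃ β ∈ S, ∃ σ,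
    Fr cs h T X β σ ∧ (∀ i, σ i ∈ J ↔ i ∈ J) ∧ d = MulAut.conj l * β := by
  obtain ⟨v, hv, l, hl, β, hβ, σ, F, hσ, e⟩ := C.decomp' R (mem_DD.1 hd).1
  have h1 : MulAut.conj v ∈ DD S (MulAut.conj k) := by
    rw [← mul_inv_eq_iff_eq_mul] at e
    rw [← e]
    exact mul_mem hd (inv_mem (mul_mem ((C.conj_mem_DD R hk hJ).2 hl) (C.fr_mem_DD R hk hβ F)))
  rw [C.eq_one_of_V R hk hJ hv (mem_DD.1 h1).2, map_one, one_mul] at e
  exact ⟨l, hl, β, hβ, σ, F, hσ, e⟩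

/-- the elements of `D` which fix all `V_{J ∪ {o}}` -/
theorem decompK {d : MulAut Y} (hd : d ∈ DD S (MulAut.conj k))
    (hK : ∀ o, o ∉ J → Fix d (VJ cs h X (insert o J))) : ∃ l ∈ LJ cs h T X J, ∃ β ∈ S, ∃ σ,
    Fr cs h T X β σ ∧ (∀ i, σ i ∈ J ↔ i ∈ J) ∧ (∀ o, o ∉ J → σ o = o) ∧ d = MulAut.conj l * β := by
  obtain ⟨l, hl, β, hβ, σ, F, hσ, e⟩ := C.decompD R hk hJ hd
  refine ⟨l, hl, β, hβ, σ, F, hσ, fun o ho => ?_, e⟩
  have h1 : Mp d (VJ cs h X (insert o J)) (VJ cs h X (insert (σ o) J)) := by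
    rw [e]
    refine (mp_conj (LJ_le_normalizer_VJ R _ (LJ_mono (Set.subset_insert _ J) hl))).mul (F.mapV R C.top fun i => ?_)
    simp [hσ]
  have h2 := subset_of_VJ_le R (Mp.unique (hK o ho) h1).ge (Set.mem_insert o J)
  exact (h2.resolve_right ho).symm

/-- an element of the kernel which centralises `L_J` is a frame automorphism -/
theorem fr_of_cent {d : MulAut Y} (hd : d ∈ DD S (MulAut.conj k))
    (hK : ∀ o, o ∉ J → Fix d (VJ cs h X (insert o J))) (hL : ∀ l ∈ LJ cs h T X J, d l = l) :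
    Diag T X d (1 : Equiv.Perm I) := by
  obtain ⟨l, hl, β, hβ, σ, F, hσ, e⟩ := C.decompD R hk hJ hd
  have hV : Fix d (VJ cs h X J) := by
    rw [e]
    exact (mp_conj (LJ_le_normalizer_VJ R J hl)).mul (F.mapV R C.top hσ)
  have hVN : Fix d (VNJ cs h X J) := by
    rw [e]
    exact (mp_conj (LJ_le_normalizer_VNJ R J hl)).mul (F.mapVN R C.top hσ)
  have key : ∀ {X' : (I → ℤ) → Subgroup Y}, RGD cs h p T n X' → Fix d (VJ cs h X' J) →
      (∀ l ∈ LJ cs h T X' J, d l = l) → Fix d (RGD.Sup X' (RGD.Pos cs h)) := by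
    intro X' R' h1 h2
    refine fix_iff.2 (Subgroup.eq_of_le_of_card_ge ?_ (Subgroup.card_map_of_injective d.injective).ge)
    rintro _ ⟨x, hx, rfl⟩
    obtain ⟨u, hu, v, hv, rfl⟩ := (mem_U_iff R' (J := J)).1 hx
    rw [map_mul]
    refine mul_mem ?_ (VJ_le_U J ((h1 v).2 hv))
    have h3 := h2 u (BJ_le_LJ (UJ_le_BJ hu))
    rw [MulEquiv.coe_toMonoidHom, h3]
    exact UJ_le_U J hu
  have hU := key R hV hL
  have hUN := key (opp R) (by rw [VJ_opp]; exact hVN) (by rw [LJ_opp]; exact hL)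
  rw [U_opp] at hUN
  obtain ⟨τ, F'⟩ := exists_fr R C.top hU hUN
  obtain ⟨l', hl', β', -, σ', F'', h0, h1, e'⟩ := C.decompK R hk hJ hd hK
  have hτ : τ = 1 := by
    ext i
    by_cases hi : i ∈ J
    · obtain ⟨u, hu, hu1⟩ := exists_ne_one R i
      exact Diag.apply_eq R F'.D hu hu1 (hL u (X_le_LJ' hi hu))
    · have h2 : Mp d (PJ cs h T X (insert i J)) (PJ cs h T X (insert i J)) := by
        rw [e']
        refine (mp_conj_of_mem (LJ_le_PJ (LJ_mono (Set.subset_insert _ J) hl'))).mul (F''.mapP R C.top fun j => ?_)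
        rw [Set.mem_insert_iff, Set.mem_insert_iff, h0]
        refine or_congr_left ⟨fun h4 => σ'.injective (by rw [h4, h1 i hi]), fun h4 => by rw [h4, h1 i hi]⟩
      have h3 := (F'.mem_of_PJ R h2 i).2 (Set.mem_insert i J)
      exact h3.resolve_right fun h4 => hi ((F'.mem_of_PJ R (C.fix (mem_DD.1 hd).1) i).1 h4)
  rw [← hτ]
  exact F'.D

theorem H1 (hI : ∃ o, o ∉ J ∧ Irr p T (X (sr o))) {E : Subgroup (MulAut Y)} (hE : E ≤ DD S (MulAut.conj k))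
    (hK : ∀ d ∈ E, ∀ o, o ∉ J → Fix d (VJ cs h X (insert o J))) (hp : IsPGroup p E)
    (hn : ∀ d ∈ DD S (MulAut.conj k), ∀ e ∈ E, d * e * d⁻¹ ∈ E) : E = ⊥ := by
  have h0 : E.comap MulAut.conj = ⊥ := by
    refine eq_bot_of_LJ R C.top (J := J) (hp.comap_of_injective _ (conj_injective' C.cen))
      (fun x hx => (C.conj_mem_DD R hk hJ).1 (hE hx)) fun g hg e he => ?_
    rw [Subgroup.mem_comap, map_mul, map_mul, map_inv]
    exact hn _ ((C.conj_mem_DD R hk hJ).2 hg) _ he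
  have h1 : ∀ e ∈ E, ∀ l ∈ LJ cs h T X J, e l = l := by
    intro e he l hl
    have h2 := mul_mem (hn _ ((C.conj_mem_DD R hk hJ).2 hl) _ he) (inv_mem he)
    have h3 : l * (e l)⁻¹ ∈ E.comap MulAut.conj := by
      rw [Subgroup.mem_comap, map_mul, map_inv, ← conj_conj']
      simpa [mul_assoc] using h2
    rw [h0, Subgroup.mem_bot, mul_inv_eq_one] at h3
    exact h3.symm
  have h2 : ∀ e ∈ E, Diag T X e (1 : Equiv.Perm I) := fun e he => C.fr_of_cent R hk hJ (hE he) (hK e he) (h1 e he)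
  obtain ⟨o, ho, hI⟩ := hI
  have h3 : ∀ e ∈ E, ∀ x ∈ X (sr o), e x = x := by
    intro e he
    obtain ⟨m, hm⟩ := hp ⟨e, he⟩
    exact hI e ⟨m, congrArg Subtype.val hm⟩ ((h2 e he).pos o) fun t ht => h1 e he t (T_le_LJ ht)
  rw [eq_bot_iff]
  intro e he
  refine Diag.eq_one R C.gen (h2 e he) fun i x hx => ?_
  by_cases hi : i ∈ J
  · exact h1 e he x (X_le_LJ' hi hx)
  · obtain ⟨β, hβ, σ, F, rfl⟩ := C.trans R ho hi
    have h4 := h3 _ (hn _ (inv_mem (C.fr_mem_DD R hk hβ F)) e he) (β⁻¹ x) ((F.D.pos o _).1 (by simpa using hx))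
    simpa using h4

theorem H2 {d : MulAut Y} (hd : d ∈ DD S (MulAut.conj k)) (hK : ∀ o, o ∉ J → Fix d (VJ cs h X (insert o J)))
    (hW : ∀ o, o ∉ J → ∀ w ∈ VJ cs h X J ⊓ LJ cs h T X (insert o J), d w = w) : d = 1 := by
  have h1 : ∀ l ∈ LJ cs h T X J, d l = l := by
    intro l hl
    obtain ⟨l', hl', β, -, σ, F, hσ, e⟩ := C.decompD R hk hJ hd
    have h2 : d l ∈ LJ cs h T X J := by
      rw [e]
      exact (((mp_conj_of_mem hl').mul (F.mapL R C.top hσ)) l).2 hl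
    have h3 := C.cent_W R (mul_mem (inv_mem hl) h2) fun o ho w hw => by
      have h4 := LJ_mono (cs := cs) (h := h) (T := T) (X := X) (Set.subset_insert o J) hl
      have h5 := hW o ho (l * w * l⁻¹) (Subgroup.mem_inf.2
        ⟨(Subgroup.mem_normalizer_iff.1 (LJ_le_normalizer_VJ R J hl) w).1 hw.1, mul_mem (mul_mem h4 hw.2) (inv_mem h4)⟩)
      rw [map_mul, map_mul, map_inv, hW o ho w hw] at h5
      calc l⁻¹ * d l * w = l⁻¹ * (d l * w * (d l)⁻¹) * d l := by group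
        _ = w * (l⁻¹ * d l) := by rw [h5]; group
    exact (inv_mul_eq_one.1 h3).symm
  refine Diag.eq_one R C.gen (C.fr_of_cent R hk hJ hd hK h1) fun i x hx => ?_
  by_cases hi : i ∈ J
  · exact h1 x (X_le_LJ' hi hx)
  · exact hW i hi x ⟨X_le_VJ hi hx, X_le_LJ' (Set.mem_insert i J) hx⟩

omit hk in
/-- **The case `J = op J`.** -/
theorem good_of_op (hI : ∃ o, o ∉ J ∧ Irr p T (X (sr o))) : Good (InnG Y) S := by
  obtain ⟨k, hk⟩ := exists_rp cs R.nsys (w0 cs)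
  have hinj := conj_injective' C.cen
  have hx : MulAut.conj k ∈ InnG Y := ⟨k, rfl⟩
  have hfix : ∀ s ∈ S, ∀ o, o ∉ J → ∃ o', o' ∉ J ∧ Mp s (VJ cs h X (insert o J)) (VJ cs h X (insert o' J)) := by
    intro s hs o ho
    obtain ⟨g, hg, β, -, σ, F, hσ, rfl⟩ := C.decomp R hs
    refine ⟨σ o, fun h1 => ho ((hσ o).1 h1), (mp_conj (PJ_le_normalizer_VJ R _
      (PJ_mono (Set.subset_insert _ J) hg))).mul (F.mapV R C.top fun i => ?_)⟩
    simp [hσ]
  have hVS : (VJ cs h X J).map MulAut.conj ≤ S := by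
    rintro _ ⟨v, hv, rfl⟩
    exact (C.par v).2 (VJ_le_PJ hv)
  have hfixV : ∀ s ∈ S, Mp s (VJ cs h X J) (VJ cs h X J) := by
    intro s hs
    obtain ⟨g, hg, β, -, σ, F, hσ, rfl⟩ := C.decomp R hs
    exact (mp_conj (PJ_le_normalizer_VJ R _ hg)).mul (F.mapV R C.top hσ)
  have hVn : ∀ s ∈ S, ∀ v ∈ (VJ cs h X J).map MulAut.conj, s * v * s⁻¹ ∈ (VJ cs h X J).map MulAut.conj :=
    fun s hs v hv => ((mv_iff C.cen).2 (hfixV s hs) v).1 hv
  have hVp : IsPGroup p ((VJ cs h X J).map MulAut.conj) := (isPGroup_VJ R J).map _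
  by_cases h1 : ∀ o o', o ∉ J → o' ∉ J → o = o'
  · have hK : ∀ d ∈ DD S (MulAut.conj k), ∀ o, o ∉ J → Fix d (VJ cs h X (insert o J)) := by
      intro d hd o ho
      obtain ⟨o', ho', h2⟩ := hfix d (mem_DD.1 hd).1 o ho
      rwa [← h1 o o' ho ho'] at h2
    refine Or.inl (fitReg_of hx hVS hVn hVp (fun E hE hp hn => C.H1 R hk hJ hI hE (fun d hd => hK d (hE hd)) hp hn)
      fun d hd hc => C.H2 R hk hJ hd (hK d hd) fun o _ w hw => hinj ?_)
    rw [← conj_conj', hc _ ⟨w, hw.1, rfl⟩, mul_inv_cancel_right]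
  · push Not at h1
    obtain ⟨o₁, o₂, ho₁, ho₂, hne⟩ := h1
    have : Nonempty {o // o ∉ J} := ⟨⟨o₁, ho₁⟩⟩
    have hK : ∀ d ∈ DD S (MulAut.conj k) ⊓ ⨅ o : {o // o ∉ J},
        Subgroup.normalizer (((VJ cs h X (insert o.1 J)).map MulAut.conj : Subgroup (MulAut Y)) : Set (MulAut Y)),
        ∀ o, o ∉ J → Fix d (VJ cs h X (insert o J)) := fun d hd o ho =>
      (mv_iff C.cen).1 (Subgroup.mem_normalizer_iff.1 (Subgroup.mem_iInf.1 hd.2 ⟨o, ho⟩))
    refine Or.inr (seven_of_split (innG_normal Y) C.solv hx hVS hVn hVp ?_ ?_ ((C.orb R).card_le cs h)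
      (N := fun o : {o // o ∉ J} => (VJ cs h X (insert o.1 J)).map MulAut.conj)
      (fun o => Subgroup.map_mono (VJ_anti (Set.subset_insert _ J))) ?_ ?_ ?_ ?_ ?_ ?_ ?_)
    · rintro _ ⟨v, hv, rfl⟩ h2
      rw [C.eq_one_of_V R hk hJ hv h2, map_one]
    · intro s hs
      obtain ⟨v, hv, l, hl, β, hβ, σ, F, -, e⟩ := C.decomp' R hs
      exact ⟨_, ⟨v, hv, rfl⟩, _, mul_mem ((C.conj_mem_DD R hk hJ).2 hl) (C.fr_mem_DD R hk hβ F), e⟩
    · intro o h2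
      exact o.2 (subset_of_VJ_le R (Subgroup.map_injective hinj h2).ge (Set.mem_insert _ J))
    · rintro o _ ⟨v, hv, rfl⟩
      exact Subgroup.mem_normalizer_iff.2 ((mv_iff C.cen).2
        (mp_conj (PJ_le_normalizer_VJ R _ (PJ_mono (Set.subset_insert _ J) (VJ_le_PJ hv)))))
    · intro s hs o
      obtain ⟨o', ho', h2⟩ := hfix s hs o.1 o.2
      exact ⟨⟨o', ho'⟩, (mv_iff C.cen).2 h2⟩
    · rintro o _ ⟨v, hv, rfl⟩
      obtain ⟨u, hu, v', hv', e⟩ := (mem_U_iff R (J := insert o.1 J)).1 (VJ_le_U J hv)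
      have h2 : u ∈ VJ cs h X J := by
        rw [← mul_inv_eq_iff_eq_mul] at e
        rw [← e]
        exact mul_mem hv (inv_mem (VJ_anti (Set.subset_insert _ J) hv'))
      refine ⟨_, ⟨u, h2, rfl⟩, ⟨v', hv', ?_⟩, fun o' ho' => ⟨u, ?_, rfl⟩⟩
      · rw [e, map_mul, inv_mul_cancel_left]
      · exact mem_VJ_of_mem R (fun h3 => ho' (Subtype.ext h3)) hu h2
    · have : Nonempty I := ⟨o₁⟩
      obtain ⟨r, hr, h0, hfull⟩ := exists_full (cs := cs) (h := h) C.conn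
      obtain ⟨u, hu, hu1⟩ := (Subgroup.bot_or_exists_ne_one (X r)).resolve_left (X_ne_bot R hr)
      intro h2
      have h3 : MulAut.conj u ∈ ⨅ o : {o // o ∉ J}, (VJ cs h X (insert o.1 J)).map MulAut.conj := by
        refine Subgroup.mem_iInf.2 fun o => ⟨u, RGD.le_Sup (S := NotJ cs h (insert o.1 J)) ⟨hr, h0, ?_⟩ hu, rfl⟩
        by_cases h4 : o₁ = o.1
        · exact ⟨o₂, by simp [← h4, hne.symm, ho₂], hfull _⟩
        · exact ⟨o₁, by simp [h4, ho₁], hfull _⟩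
      rw [h2, Subgroup.mem_bot] at h3
      exact hu1 (conj_inj C.cen h3)
    · exact fun E hE hp hn => C.H1 R hk hJ hI (hE.trans inf_le_left) (fun d hd => hK d (hE hd)) hp hn
    · intro d hd hc
      refine C.H2 R hk hJ hd.1 (hK d hd) fun o ho w hw => ?_
      have h2 := Subgroup.mem_iInf.1 (hc _ ⟨w, hw.1, rfl⟩) ⟨o, ho⟩
      rw [conj_conj', ← map_inv, ← map_mul, Subgroup.mem_map_iff_mem hinj] at h2
      obtain ⟨l, hl, β, -, σ, F, hσ, hσ', e⟩ := C.decompK R hk hJ hd.1 (hK d hd)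
      have h3 : d w ∈ LJ cs h T X (insert o J) := by
        rw [e]
        refine (((mp_conj_of_mem (LJ_mono (Set.subset_insert _ J) hl)).mul (F.mapL R C.top fun j => ?_)) w).2 hw.2
        rw [Set.mem_insert_iff, Set.mem_insert_iff, hσ]
        exact or_congr_left ⟨fun h4 => σ.injective (by rw [h4, hσ' o ho]), fun h4 => by rw [h4, hσ' o ho]⟩
      exact (inv_mul_eq_one.1 (eq_one_of_mem_LJ_of_mem_VJ R (mul_mem (inv_mem hw.2) h3) h2)).symm

end Ctx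

end Cfsg.Agent.SB.Par
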