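import Cfsg.Agent.SB.Par.Fam
import Cfsg.Agent.H270.EPU.Tree
import Cfsg.Agent.H60.HerTwF4
import Cfsg.Agent.H187.TwF4Par
import Cfsg.Agent.KFacts.TwF4.AutNorm
import Cfsg.Agent.KFacts.TwF4.Perf

/-!
# S5765, parabolic case: `²F₄(q)`, `q ≥ 8` (helper64)

* `bti_of_sys` : Borel–Tits from a building of rank two;
* `rowP_2F4` : no solvable `S` with `MaxInv` contains a Borel subgroup.
-/

set_option autoImplicit false
set_option linter.unusedSectionVars false

open scoped Pointwise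

namespace Cfsg.Agent.SB.Par

section sys

open Cfsg.Agent.Tits.Core Cfsg.Agent.Tits.Core.Bldg Cfsg.Agent.Tits Cfsg.Agent.FixBN Cfsg.Agent.H270.EPU Subgroup

variable {M : CoxeterMatrix (Fin 2)} {W : Type*} [Group W] {cs : CoxeterSystem M W} {C : Type*} {Δ : Bldg cs C}
  [F : OppRes.Cox cs] {G : Type*} [Group G] [MulAction G C] {p : ℕ} (S : Sys Δ G p)

theorem eq_of_fix_U (hth : Δ.Thick) {x y : C} (h : ∀ u ∈ S.U x, u • y = y) : y = x := by
  by_contra hne
  have hw : Δ.δ x y ≠ 1 := fun h1 => hne ((Δ.eq_one x y).1 h1).symm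
  obtain ⟨i, hi⟩ := cs.exists_rightDescent_of_ne_one hw
  have hi' : cs.length (Δ.δ x y * cs.simple i) < cs.length (Δ.δ x y) := hi
  have h0 : Δ.δ x y = Δ.δ x y * cs.simple i * cs.simple i := by
    rw [mul_assoc, cs.simple_mul_simple_self, mul_one]
  obtain ⟨y', h2, h1⟩ := Δ.exists_step x y i
  have key : ∀ z, Δ.δ y' z = cs.simple i → z = y := by
    intro z hz
    have h3 := Δ.step_lt x y' z i hz (by rw [h1, ← h0]; exact hi')
    rw [h1, ← h0] at h3
    obtain ⟨u, hu, e⟩ := S.exists_move h3.symm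
    rw [← e, h u hu]
  obtain ⟨a, b, hab, ha, hb⟩ := hth y' i
  exact hab ((key a ha).trans (key b hb).symm)

theorem maxP_sys (hth : Δ.Thick) (x : C) : MaxP p (S.U x) := by
  refine ⟨S.isP x, fun Q hQ hle => ?_⟩
  obtain ⟨y, hy⟩ := S.exists_fix Q hQ
  obtain rfl := eq_of_fix_U S hth fun u hu => hy u (hle hu)
  exact le_antisymm (S.max y Q hQ hy) hle

theorem fix_of_normalizer (hth : Δ.Thick) {x : C} {g : G} (hg : g ∈ normalizer (S.U x : Set G)) : g • x = x :=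
  eq_of_fix_U S hth fun u hu => by
    have h1 := S.fix x _ ((mem_normalizer_iff''.1 hg u).1 hu)
    rwa [mul_smul, mul_smul, inv_smul_eq_iff] at h1

include S in
theorem bti_of_sys (hth : Δ.Thick) : BTI p G := by
  intro V hV h1
  set X : Set C := {x | ∀ v ∈ V, v • x = x} with hXdef
  have hX : H270.EPU.Good Δ X := by
    refine ⟨S.conv_fix (V : Set G), fun x hx y hy hxy => h1 ?_⟩
    rw [Subgroup.eq_bot_iff_forall]
    intro v hv
    exact S.free x y hxy v (S.mem_U_of_isPGroup hV hv (hx v hv)) (hy v hv)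
  have hN : ∀ g ∈ normalizer (V : Set G), ∀ a ∈ X, g • a ∈ X := by
    intro g hg a ha v hv
    have h3 := ha _ ((mem_normalizer_iff''.1 hg v).1 hv)
    rwa [mul_smul, mul_smul, inv_smul_eq_iff] at h3
  have hN' : ∀ g ∈ normalizer (V : Set G), ∀ a ∈ X, ∃ b ∈ X, g • b = a := fun g hg a ha =>
    ⟨g⁻¹ • a, hN g⁻¹ (inv_mem hg) a ha, smul_inv_smul g a⟩
  rcases centre hX (S.exists_fix V hV) fun x hx y hy i hi z hz v hv =>
    S.pan x y i hi v (S.mem_U_of_isPGroup hV hv (hx v hv)) (hy v hv) z hz with ⟨c, hc, h2⟩ | ⟨c, hc, i, hi, h2⟩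
  · refine ⟨S.U c, S.isP c, S.max c V hV hc, fun g hg => mem_normalizer_iff.2 fun u => ?_, _, maxP_sys S hth c, le_rfl⟩
    have h3 := S.conj_mem_U_iff (x := c) (u := u) (g := g)
    rw [h2 (fun a => g • a) (S.iso g) (hN g hg) (hN' g hg)] at h3
    exact h3.symm
  · have key : ∀ g : G, g • c ∈ Δ.Pan i c → g ∈ normalizer (S.UR (Δ.Pan i c) : Set G) := by
      intro g hg
      have h4 : g • Δ.Pan i c = Δ.Pan i c := by
        rw [Δ.Pan_eq_Res, S.smul_Res, ← Δ.Pan_eq_Res, ← Δ.Pan_eq_Res]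
        exact Δ.Pan_eq_of_mem hg
      refine mem_normalizer_iff.2 fun u => ?_
      have h5 := S.conj_mem_UR_iff (Q := Δ.Pan i c) (u := u) (g := g)
      rw [h4] at h5
      exact h5.symm
    exact ⟨S.UR (Δ.Pan i c), S.UR_isP ⟨c, Δ.self_mem_Pan i c⟩,
      fun v hv y hy => S.mem_U_of_isPGroup hV hv (hi hy v hv),
      fun g hg => key g (h2 (fun a => g • a) (S.iso g) (hN g hg) (hN' g hg)), _, maxP_sys S hth c,
      fun g hg => key g (by rw [fix_of_normalizer S hth hg]; exact Δ.self_mem_Pan i c)⟩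

end sys

theorem bti_2F4 {Y : Type*} [Group Y] [Finite Y] [IsSimpleGroup Y] (hY : ¬ IsMulCommutative Y) (h : Lie.Iso2F4 Y) :
    BTI 2 Y := by
  have hk : (MonoidHom.id Y).ker = ⊥ := MonoidHom.ker_id
  obtain ⟨M, -, ⟨W, C, i1, cs, i2, i3, Δ, i4, hth, ⟨S⟩⟩, -⟩ := H60.HerTwF4.sys_twF4 h (MonoidHom.id Y)
    (by rw [hk, center_bot hY]) (by rw [hk, Subgroup.card_bot]; exact Nat.coprime_one_left 2) Function.surjective_id
  exact bti_of_sys S hth

section full

open Cfsg.Agent.KFacts.TwF4 Cfsg.Agent.KFacts.TwF4.Full Cfsg.Agent.KFacts.TwF4.Arc Cfsg.Agent.KFacts.TwF4.Perf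
  Cfsg.Agent.SplitTwo Cfsg.Agent.SplitTwo.ZS Cfsg.Agent.TitsThree.RankTwoZ Cfsg.Agent.H248.TwF4Over
  Cfsg.Agent.H786.FC

variable {F : Type*} [Field F] {σ : F →+* F} {G : Type*} [Group G] (S : Full σ G) [Finite F] [Finite G]

theorem not_X9 (hF : ∃ c : Fˣ, c ≠ 1) {R : Subgroup G} (hR : Group.IsSolvable R) (hU : J S.XZ 1 8 ≤ R) :
    ¬ S.XZ 9 ≤ R := by
  intro h
  have h1 : S.HO ≤ R := (HO_le_J S).trans (J_le fun k h1 h2 => by
    rcases h2.eq_or_lt with rfl | h3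
    exacts [h, (X_le_J h1 (by omega)).trans hU])
  exact S.zsys8.ne_bot 1 (eq_bot_iff.2 (eq_bot_of_perfect (isSolvable_le h1 hR) (HO_perfect S hF) ▸ X1_HO S))

theorem not_X0 (hF : ∃ c : Fˣ, c ≠ 1) {R : Subgroup G} (hR : Group.IsSolvable R) (hU : J S.XZ 1 8 ≤ R) :
    ¬ S.XZ 0 ≤ R := by
  intro h
  have h1 : S.PL ≤ R := J_le fun k h1 h2 => by
    rcases h1.eq_or_lt with rfl | h3
    exacts [h, (X_le_J (by omega) h2).trans hU]
  exact J_ne_bot S (by norm_num) (eq_bot_of_perfect (isSolvable_le h1 hR) (PL_perfect S hF))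

/-- a solvable overgroup of `U` normalises `U` -/
theorem le_normalizer_U (hF : ∃ c : Fˣ, c ≠ 1) {R : Subgroup G} (hR : Group.IsSolvable R) (hU : J S.XZ 1 8 ≤ R) :
    R ≤ Subgroup.normalizer (J S.XZ 1 8 : Set G) := by
  intro g hg
  have C := cond_top S
  obtain ⟨b, hb, t, ht, w, hw, b', hb', rfl⟩ := S.bruhat g
  rw [mul_assoc b] at hg ⊢
  refine mul_mem (mul_mem (Subgroup.le_normalizer hb) ?_) (Subgroup.le_normalizer hb')
  rcases types C (inf_le_left.trans hU) hb hb' (torus_mul_maps C ht hw) hg with h | h | ⟨-, h⟩ | ⟨-, h⟩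
  · exact absurd (le_top.trans h) (not_X9 S hF hR hU)
  · exact mem_normalizer_J C fun x hx => conj_J_of_maps C (Or.inl h) hx
  · exact absurd (le_trans (le_inf le_rfl le_top) h) (not_X9 S hF hR hU)
  · exact absurd (le_trans (le_inf le_rfl le_top) h) (not_X0 S hF hR hU)

theorem rowP_full [IsSimpleGroup G] (hG : ¬ IsMulCommutative G) (hB : BTI 2 G) (hF : ∃ c : Fˣ, c ≠ 1)
    (h2 : S.R.p = 2) : RowP 2 G := by
  have : Fact (Nat.Prime 2) := ⟨Nat.prime_two⟩
  have hinj := conj_injective hG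
  have hU : MaxP 2 (J S.XZ 1 8) := ⟨two_J S h2 (by norm_num), fun Q hQ h => le_antisymm (le_U_of_two S hF h2 hQ h) h⟩
  refine rowP_of_std hG hB hU fun A hA hm h1 => False.elim ?_
  set R := A.comap (MulAut.conj : G →* MulAut G) with hR
  have hRs : Group.IsSolvable R :=
    Group.isSolvable_of_isSolvable_injective (f := (MulAut.conj : G →* MulAut G).subgroupComap A) fun a b e =>
      Subtype.ext (hinj (congrArg Subtype.val e))
  have hUR : J S.XZ 1 8 ≤ R := fun g hg => h1 g (Subgroup.le_normalizer hg)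
  have hN := le_normalizer_U S hF hRs hUR
  have hAU : ∀ s ∈ A, ∀ x ∈ J S.XZ 1 8, s x ∈ J S.XZ 1 8 := by
    intro s hs x hx
    have h3 : (J S.XZ 1 8).map s.toMonoidHom ≤ R := by
      rintro _ ⟨y, hy, rfl⟩
      rw [hR, Subgroup.mem_comap]
      change MulAut.conj (s y) ∈ A
      rw [← conj_conj']
      exact mul_mem (mul_mem hs (hUR hy)) (inv_mem hs)
    rw [← hU.2 _ (IsPGroup.to_sup_of_normal_right' (hU.1.map s.toMonoidHom) hU.1 (h3.trans hN)) le_sup_right]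
    exact Subgroup.mem_sup_left ⟨x, hx, rfl⟩
  have h3 : S.n1 ∈ R := by
    refine hm.mem_of_normalizes (as_inn hG) (X := (J S.XZ 2 8).map MulAut.conj)
      (fun e => J_ne_bot S (by norm_num) ((Subgroup.map_eq_bot_iff_of_injective _ hinj).1 e))
      (fun e => (as_inn hG).not_le hA (e.trans (Subgroup.map_le_iff_le_comap.2
        ((J_mono (by norm_num) le_rfl).trans hUR)))) ?_ ⟨_, rfl⟩ ?_
    · rintro s hs _ ⟨y, hy, rfl⟩
      refine ⟨_, (AutNorm.J28_of_U (fun x => ⟨fun h4 => ?_, hAU s hs x⟩) y).2 hy, (conj_conj' s y).symm⟩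
      simpa using hAU _ (inv_mem hs) _ h4
    · rintro _ ⟨y, hy, rfl⟩
      exact ⟨_, conj_J_of_maps (cond_top S) (Or.inr (by exact_mod_cast S.n1_maps)) hy, by simp⟩
  refine not_X9 S hF hRs hUR fun x hx => ?_
  have h4 : S.n1 * x * S.n1⁻¹ ∈ S.XZ 1 := (S.n1_maps 9 x).2 hx
  have h5 := mul_mem (mul_mem (inv_mem h3) (hUR (X_le_J le_rfl (by norm_num) h4))) h3
  simpa [mul_assoc] using h5

end full

/-- **The parabolic case for `²F₄(q)`.** -/
theorem rowP_2F4 {K : Type*} [Group K] [Finite K] [IsSimpleGroup K] (hK : ¬ IsMulCommutative K) (h : Lie.Iso2F4 K) :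
    RowP 2 K := by
  obtain ⟨F, i1, i2, m, φ, S, hm, hF, ⟨e⟩, h2, _, hc⟩ := H187.exists_full h
  have := e.symm.isSimpleGroup
  have hK' := noncomm_of_equiv e hK
  exact rowP_of_equiv e (rowP_full S hK' (bti_2F4 hK' ⟨F, i1, i2, m, hm, hF, ⟨MulEquiv.refl _⟩⟩) hc h2)

end Cfsg.Agent.SB.Par
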