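import Cfsg.Agent.SB.Par.Opp
import Cfsg.Agent.KFacts.RgdField
import Cfsg.Agent.H939.RgdV

/-!
# S5765, parabolic case: the projective plane, and the theorem for root group data (helper64)

* `Ctx.good_of_plane` : type `A₂`, `J` a single node: four points in general position;
* `irr_of_three` : `Irr` for the nodes with a simple bond;
* `Ctx.good` : the theorem.
-/

set_option autoImplicit false
set_option linter.unusedSectionVars false

namespace Cfsg.Agent.SB.Par

open CoxeterSystem Cfsg.Agent.ChevalleyStructure.CoxeterGeom Cfsg.Agent.Tits.Roots Cfsg.Agent.Tits.Core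
  Cfsg.Agent.Tits.Exchange Cfsg.Agent.Nodes.Reps Cfsg.Agent.Nodes.BNOf Cfsg.Agent.Nodes.StabComb
  Cfsg.Agent.Nodes.Bruhat Cfsg.Agent.Nodes.OppDec Cfsg.Agent.Nodes.LeviDec Cfsg.Agent.Nodes.NormalForm
  Cfsg.Agent.KFacts.RgdOpp Cfsg.Agent.KFacts.RgdAut Cfsg.Agent.KFacts.RgdDiag Cfsg.Agent.KFacts.RgdRigid
  Cfsg.Agent.KFacts.RgdVJ Cfsg.Agent.KFacts.RgdCharP Cfsg.Agent.H786.FC Cfsg.Agent.KFacts.RgdPar
  Cfsg.Agent.KFacts.RgdSL
open scoped commutatorElement

variable {I W Y : Type*} [Fintype I] [DecidableEq I] [Group W] [Group Y] {M : CoxeterMatrix I}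
  {cs : CoxeterSystem M W} {A : I → I → ℤ} {h : IsCartan M A} {p : ℕ} {T : Subgroup Y} {n : I → Y}
  {X : (I → ℤ) → Subgroup Y}

theorem rep_w0_sr [Finite W] (i : I) : rep cs h (w0 cs) (sr i) = -sr (op cs i) := by
  have hr : IsRoot cs h (-rep cs h (w0 cs) (sr i)) := ((isRoot_sr cs h i).act _).neg
  have h0 : 0 ≤ -rep cs h (w0 cs) (sr i) := neg_nonneg.2 (rep_w0_nonpos (isRoot_sr cs h i) (sr_nonneg i))
  rw [← neg_eq_iff_eq_neg]
  by_contra hne
  have h1 := hr.simple_nonneg h0 (op cs i) hne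
  rw [map_neg, ← rep_mul_apply, simple_op_mul_w0, rep_mul_apply, rep_simple_sr, map_neg, neg_neg] at h1
  exact hr.not_pos_neg h0 (neg_nonpos.2 h1)

theorem cartan_op [Finite W] (h : IsCartan M A) (i j : I) : A (op cs i) (op cs j) = A i j := by
  have h1 : rep cs h (cs.simple (op cs i) * w0 cs) (sr j) = rep cs h (w0 cs * cs.simple i) (sr j) := by
    rw [simple_op_mul_w0]
  rw [rep_mul_apply, rep_mul_apply, rep_w0_sr, map_neg, rep_simple_eq, rep_simple_eq, map_sub, map_smul, rep_w0_sr,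
    rep_w0_sr, pairing_sr0, pairing_sr0] at h1
  have h2 := congrFun h1 (op cs i)
  simp only [Pi.neg_apply, Pi.sub_apply, Pi.smul_apply, sr_self, smul_eq_mul] at h2
  omega

theorem irr_of_three [Finite W] [Finite Y] [Fact p.Prime] (R : RGD cs h p T n X) {i j : I} (hM : M i j = 3) :
    Irr p T (X (sr j)) := by
  rintro β ⟨k, hk⟩ hP hT x hx
  obtain ⟨y, hy, hy1, e⟩ := KFacts.RgdField.exists_fixed hk hP (R.pgrp j) (X_ne_bot R (isRoot_sr cs h j))
  by_cases hx1 : x = 1
  · rw [hx1, map_one]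
  obtain ⟨t, ht, rfl⟩ := A2.tor_trans R (H939.RgdV.a2_simple (cs := cs) (h := h) hM) hy hy1 hx hx1
  rw [map_mul, map_mul, map_inv, hT t ht.1, e]

theorem cj_half (R : RGD cs h p T n X) {w : W} {g : Y} (hg : Rp cs R.nsys w g) (f : (I → ℤ) →+ ℤ) :
    cj g (PS T X (Half cs h f)) = PS T X (Half cs h (pull cs h f w⁻¹)) := by
  rw [cj_PS R hg fun x hx => hx.1]
  congr 1
  ext x
  refine and_congr_left fun _ => ⟨fun hx => ?_, fun hx => hx.act _⟩
  simpa [rep_apply_inv] using hx.act w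

namespace Ctx

variable {S : Subgroup (MulAut Y)} {J : Set I} (C : Ctx cs h T X S J)
  [Finite W] [Finite Y] [Fact p.Prime] (R : RGD cs h p T n X)
include C R

theorem good_of_plane {i j : I} (hi : i ∉ J) (hj : j ∈ J) (hall : ∀ k, k = i ∨ k = j) (hM : M i j = 3) :
    Good (InnG Y) S := by
  have hp : p.Prime := Fact.out
  have hij : i ≠ j := fun e => hi (e ▸ hj)
  have hA : A i j = -1 ∧ A j i = -1 := by
    rcases h.rel i j hij with ⟨h1, -⟩ | ⟨-, h1⟩ | ⟨h1, -⟩ | ⟨h1, -⟩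
    exacts [by omega, h1, by omega, by omega]
  have a2 : A2 cs h (sr i) (sr j) := H939.RgdV.a2_simple hM
  have pr : ∀ k (x : I → ℤ), pairing A k x = A k i * x i + A k j * x j := by
    intro k x
    unfold pairing
    rw [← Finset.sum_pair (f := fun l => A k l * x l) hij]
    refine (Finset.sum_subset (Finset.subset_univ _) fun l _ hl => ?_).symm
    exact absurd (by simpa using hall l) hl
  set f₁ : (I → ℤ) →+ ℤ := Pi.evalAddMonoidHom (fun _ => ℤ) i with hf₁
  have e₁ : ∀ x, f₁ x = x i := fun _ => rfl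
  have hP : PS T X (Half cs h f₁) = PJ cs h T X J := by
    rw [PS_half_of_dom fun k => sr_nonneg k i]
    congr 1
    ext k
    rcases hall k with rfl | rfl
    · simp [e₁, sr_self, hi]
    · simp [e₁, sr_ne hij, hj]
  have hn := rp_simple cs R.nsys i
  have hk := (rp_simple cs R.nsys j).mul hn
  set f₂ := pull cs h f₁ (cs.simple i)⁻¹ with hf₂
  set f₃ := pull cs h f₁ (cs.simple j * cs.simple i)⁻¹ with hf₃
  have e₂ : ∀ x, f₂ x = x j - x i := by
    intro x
    rw [hf₂, pull_apply, e₁, cs.inv_simple, rep_simple_apply_self, pr, h.diag, hA.1]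
    ring
  have e₃ : ∀ x, f₃ x = -x j := by
    intro x
    rw [hf₃, pull_apply, e₁, mul_inv_rev, cs.inv_simple, cs.inv_simple, rep_mul_apply, rep_simple_apply_self, pr,
      h.diag, hA.1, rep_simple_apply_self, rep_simple_apply _ _ _ _ _ hij, pr, h.diag, hA.2]
    ring
  have hP₂ : cj (n i) (PJ cs h T X J) = PS T X (Half cs h f₂) := by rw [← hP, cj_half R hn]
  have hP₃ : cj (n j * n i) (PJ cs h T X J) = PS T X (Half cs h f₃) := by rw [← hP, cj_half R hk]
  have hs : rep cs h (cs.simple i) (sr j) = sr i + sr j := by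
    rw [rep_simple_eq, pairing_sr0, hA.1, neg_smul, one_smul, sub_neg_eq_add, add_comm]
  have hcj : ∀ x, n i * x * (n i)⁻¹ ∈ X (sr i + sr j) ↔ x ∈ X (sr j) := by
    intro x
    rw [← hs, ← R.conj i _ (isRoot_sr cs h j), conj_mem_cj]
  have hV : ∀ b ∈ X (sr j), ∀ c ∈ X (sr i + sr j), b * c ∈ RGD.Sup X {x | IsRoot cs h x ∧ f₃ x < 0} :=
    fun b hb c hc => mul_mem (RGD.le_Sup (S := {x | IsRoot cs h x ∧ f₃ x < 0}) ⟨a2.ry, by simp [e₃, sr_self]⟩ hb)
      (RGD.le_Sup (S := {x | IsRoot cs h x ∧ f₃ x < 0}) ⟨a2.rxy, by simp [e₃, sr_self, sr_ne hij.symm]⟩ hc)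
  have hne : sr j ≠ sr i + sr j := fun e => sr_ne_zero i (by simpa using e)
  have huniq : ∀ b ∈ X (sr j), ∀ c ∈ X (sr i + sr j), ∀ b' ∈ X (sr j), ∀ c' ∈ X (sr i + sr j),
      (b * c)⁻¹ * (b' * c') ∈ PS T X (Half cs h f₃) → b = b' ∧ c = c' := by
    intro b hb c hc b' hb' c' hc' h1
    have h2 := key R f₃ rp_one (mul_mem (inv_mem (hV b hb c hc)) (hV b' hb' c' hc')) (by rwa [mul_one])
    rw [inv_mul_eq_one] at h2
    have h3 : b'⁻¹ * b = c' * c⁻¹ := by rw [inv_mul_eq_iff_eq_mul, ← mul_assoc, ← h2, mul_inv_cancel_right]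
    have h4 : b'⁻¹ * b ∈ X (sr j) ⊓ X (sr i + sr j) :=
      Subgroup.mem_inf.2 ⟨mul_mem (inv_mem hb') hb, h3 ▸ mul_mem hc' (inv_mem hc)⟩
    rw [X_inf_X R a2.ry a2.rxy hne, Subgroup.mem_bot] at h4
    rw [h4, eq_comm, mul_inv_eq_one] at h3
    exact ⟨(inv_mul_eq_one.1 h4).symm, h3.symm⟩
  -- the root group is cyclic of order `p`
  have hcyc : IsCyclic (X (sr j)) := by
    by_contra hc
    refine H938.not_isSolvable_LJ_one hp R le_rfl (fun a ha b hb => ?_) hc
      (C.solvable ((LJ_mono (Set.singleton_subset_iff.2 hj)).trans LJ_le_PJ))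
    have := A2.comm_self R a2 ((hcj a).2 ha) ((hcj b).2 hb)
    rw [conj_mul, conj_mul] at this
    simpa using this
  obtain ⟨u, hu, hu1⟩ := exists_ne_one R j
  have hgen : ∀ y ∈ X (sr j), ∃ m : ℤ, u ^ m = y := by
    obtain ⟨g, hg⟩ := hcyc.exists_generator
    have h1 : Nat.card (X (sr j)) ∣ p := by
      rw [← orderOf_eq_card_of_forall_mem_zpowers hg]
      exact orderOf_dvd_of_pow_eq_one (Subtype.ext (KFacts.RgdEx.elementary R a2 g.2))
    have h2 : orderOf u = p := orderOf_eq_prime (KFacts.RgdEx.elementary R a2 hu) hu1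
    have h3 : Subgroup.zpowers u = X (sr j) :=
      Subgroup.eq_of_le_of_card_ge (by simpa using hu) (by rw [Nat.card_zpowers, h2]; exact Nat.le_of_dvd hp.pos h1)
    intro y hy
    rw [← h3] at hy
    exact hy
  refine Or.inr (seven_of_four ⟨MulAut.conj (n i), ⟨_, rfl⟩, MulAut.conj (n j * n i), ⟨_, rfl⟩,
    MulAut.conj (u * (n i * u * (n i)⁻¹) * (n j * n i)), ⟨_, rfl⟩, fun s hs h1 h2 h3 => ?_⟩ ?_)
  · have conj_iff : ∀ s ∈ S, ∀ x, (MulAut.conj x)⁻¹ * s * MulAut.conj x ∈ S ↔ x⁻¹ * s x ∈ PJ cs h T X J := by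
      intro s hs x
      have e : (MulAut.conj x)⁻¹ * s * MulAut.conj x = MulAut.conj (x⁻¹ * s x) * s := by
        rw [map_mul, map_inv, ← conj_conj']
        group
      rw [e, Subgroup.mul_mem_cancel_right _ hs, C.par]
    rw [conj_iff s hs] at h1 h2 h3
    have one : ∀ {β σ}, β ∈ S → Fr cs h T X β σ → σ = 1 := by
      intro β σ hβ F
      have h4 := F.mem_of_PJ R (C.fix hβ)
      have h5 : σ i = i := (hall _).resolve_right fun e => hi ((h4 i).1 (e ▸ hj))
      ext k
      rcases hall k with rfl | rfl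
      · exact h5
      · exact (hall _).resolve_left fun e => hij (σ.injective (h5.trans e.symm))
    have tor : ∀ {β}, Diag T X β (1 : Equiv.Perm I) → (n i)⁻¹ * β (n i) ∈ T ∧ (n j * n i)⁻¹ * β (n j * n i) ∈ T := by
      intro β D
      refine ⟨hn.unique (D.rp (R := R) i), hk.unique ?_⟩
      rw [map_mul]
      exact (D.rp (R := R) j).mul (D.rp (R := R) i)
    have hTP : T ≤ PJ cs h T X J := RGD.T_le_B.trans B_le_PJ
    obtain ⟨g, hg, β, hβ, σ, F, -, rfl⟩ := C.decomp R hs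
    obtain rfl := one hβ F
    have aux : ∀ x, x⁻¹ * β x ∈ T → x⁻¹ * (MulAut.conj g * β) x ∈ PJ cs h T X J → g ∈ cj x (PJ cs h T X J) := by
      intro x h4 h5
      rw [mem_cj]
      have e : x⁻¹ * g * x = x⁻¹ * (MulAut.conj g * β) x * g * (x⁻¹ * β x)⁻¹ := by simp [mul_assoc]
      rw [e]
      exact mul_mem (mul_mem h5 hg) (inv_mem (hTP h4))
    have hgT : g ∈ T := by
      have h4 := (inter R [f₁, f₂, f₃] (g := g) (by rw [C.top]; trivial) (by
        intro f hf
        simp only [List.mem_cons, List.not_mem_nil, or_false] at hf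
        rcases hf with rfl | rfl | rfl
        · rwa [hP]
        · rw [← hP₂]; exact aux _ (tor F.D).1 h1
        · rw [← hP₃]; exact aux _ (tor F.D).2 h2)).1
      have h5 : {x | IsRoot cs h x ∧ ∀ f ∈ [f₁, f₂, f₃], 0 ≤ f x} = ∅ := by
        refine Set.eq_empty_of_forall_notMem fun x hx => hx.1.ne_zero ?_
        have a1 := hx.2 f₁ (by simp)
        have a2 := hx.2 f₂ (by simp)
        have a3 := hx.2 f₃ (by simp)
        rw [e₁] at a1
        rw [e₂] at a2
        rw [e₃] at a3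
        ext k
        rcases hall k with rfl | rfl <;> simp only [Pi.zero_apply] <;> omega
      rwa [h5, PS, Sup_empty, sup_bot_eq] at h4
    have D : Diag T X (MulAut.conj g * β) (1 : Equiv.Perm I) := by simpa using (diag_conj R hgT).mul F.D
    generalize MulAut.conj g * β = s at h3 D
    have hc : ∀ x, s x ∈ X (sr i + sr j) ↔ x ∈ X (sr i + sr j) := fun x =>
      Diag.root_comp R D (fun _ _ => rfl) a2.rxy x
    have h4 := huniq u hu _ ((hcj u).2 hu) _ ((D.pos j u).2 hu) _ ((hc _).2 ((hcj u).2 hu)) (by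
      rw [← hP₃, mem_cj, ← map_mul]
      have h5 := mul_mem h3 (inv_mem (hTP (tor D).2))
      generalize u * (n i * u * (n i)⁻¹) = v at h5 ⊢
      generalize n j * n i = k at h5 ⊢
      simpa [mul_assoc] using h5)
    have h5 : ∀ y ∈ X (sr j), s y = y := by
      intro y hy
      obtain ⟨m, rfl⟩ := hgen y hy
      rw [map_zpow, ← h4.1]
    have h6 : ∀ y ∈ X (sr i + sr j), s y = y := by
      intro y hy
      obtain ⟨m, hm⟩ := hgen ((n i)⁻¹ * y * n i) ((hcj _).1 (by simpa [mul_assoc] using hy))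
      have e : y = (n i * u * (n i)⁻¹) ^ m := by rw [conj_zpow, hm]; group
      rw [e, map_zpow, ← h4.2]
    refine Diag.eq_one R C.gen D fun l x hx => ?_
    rcases hall l with rfl | rfl
    · refine A2.comm_inj R a2.symm hu hu1 ((D.pos l x).2 hx) hx ?_
      have h7 := h6 _ (add_comm (sr j) (sr l) ▸ A2.comm_mem R a2.symm hu hx)
      rwa [map_commutatorElement, h5 u hu] at h7
    · exact h5 x hx
  · have e : S.comap MulAut.conj = PJ cs h T X J := by
      ext g
      exact C.par g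
    rw [← Subgroup.index_comap, e]
    set P := PJ cs h T X J with hPdef
    let F : Unit ⊕ X (sr i) ⊕ X (sr j) × X (sr i + sr j) → Y :=
      Sum.elim (fun _ => 1) (Sum.elim (fun a => a * n i) fun b => b.1 * b.2 * (n j * n i))
    have hcjeq : ∀ {x y : Y}, (x : Y ⧸ P) = y → cj x P = cj y P := by
      intro x y hxy
      rw [QuotientGroup.eq] at hxy
      rw [← mul_inv_cancel_left x y, cj_mul, cj_eq_of_mem hxy]
    have i1 : ∀ a ∈ X (sr i), ¬ X (sr i) ≤ cj (a * n i) P := by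
      intro a ha h1
      rw [cj_mul, hP₂, ← cj_eq_of_mem ha, cj_le_cj_iff, X_le_half_iff R _ a2.rx, e₂, sr_self, sr_ne hij.symm] at h1
      omega
    have i2 : ∀ a ∈ X (sr i), X (sr i + sr j) ≤ cj (a * n i) P := by
      intro a ha x hx
      rw [cj_mul, hP₂, mem_cj, mul_assoc, A2.comm_left R a2 hx ha, inv_mul_cancel_left]
      exact (X_le_half_iff R _ a2.rxy).2 (by simp [e₂, sr_self, sr_ne hij, sr_ne hij.symm]) hx
    have i3 : ∀ b ∈ X (sr j), ∀ c ∈ X (sr i + sr j), ¬ X (sr i + sr j) ≤ cj (b * c * (n j * n i)) P := by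
      intro b hb c hc h1
      have h2 : X (sr i + sr j) ≤ PS T X (Half cs h f₃) := by
        intro x hx
        have h3 := h1 hx
        rwa [cj_mul, hP₃, mem_cj, mul_assoc, ← mul_assoc x, A2.comm_right R a2 hx hb, mul_assoc b,
          A2.comm_self R a2 hx hc, ← mul_assoc b, inv_mul_cancel_left] at h3
      rw [X_le_half_iff R _ a2.rxy, e₃] at h2
      simp [sr_self, sr_ne hij.symm] at h2
    have i4 : X (sr i) ≤ cj 1 P := by
      rw [cj_one]
      exact (RGD.X_le_B a2.rx (sr_nonneg i)).trans B_le_PJ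
    have i5 : X (sr i + sr j) ≤ cj 1 P := by
      rw [cj_one]
      exact (RGD.X_le_B a2.rxy (add_nonneg (sr_nonneg i) (sr_nonneg j))).trans B_le_PJ
    have hF : Function.Injective fun x => (F x : Y ⧸ P) := by
      rintro (_ | a | ⟨b, c⟩) (_ | a' | ⟨b', c'⟩) hxy
      · rfl
      · exact absurd (hcjeq hxy ▸ i4) (i1 _ a'.2)
      · exact absurd (hcjeq hxy ▸ i5) (i3 _ b'.2 _ c'.2)
      · exact absurd (hcjeq hxy.symm ▸ i4) (i1 _ a.2)
      · have h1 : (a : Y)⁻¹ * a' ∈ PS T X (Half cs h f₂) := by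
          rw [← hP₂, mem_cj]
          simpa [F, mul_assoc] using QuotientGroup.eq.1 hxy
        have h2 := key R f₂ rp_one (RGD.le_Sup (S := {x | IsRoot cs h x ∧ f₂ x < 0})
          ⟨a2.rx, by simp [e₂, sr_self, sr_ne hij.symm]⟩ (mul_mem (inv_mem a.2) a'.2)) (by rwa [mul_one])
        rw [Subtype.ext (inv_mul_eq_one.1 h2)]
      · exact absurd (hcjeq hxy ▸ i2 _ a.2) (i3 _ b'.2 _ c'.2)
      · exact absurd (hcjeq hxy.symm ▸ i5) (i3 _ b.2 _ c.2)
      · exact absurd (hcjeq hxy.symm ▸ i2 _ a'.2) (i3 _ b.2 _ c.2)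
      · have h1 := huniq _ b.2 _ c.2 _ b'.2 _ c'.2 (by
          rw [← hP₃, mem_cj]
          simpa [F, mul_assoc] using QuotientGroup.eq.1 hxy)
        rw [Subtype.ext h1.1, Subtype.ext h1.2]
    have h1 := Nat.card_le_card_of_injective _ hF
    rw [Nat.card_sum, Nat.card_sum, Nat.card_prod, Nat.card_unique] at h1
    have two : ∀ x, IsRoot cs h x → 2 ≤ Nat.card (X x) := fun x hx =>
      (Subgroup.one_lt_card_iff_ne_bot _).2 (X_ne_bot R hx)
    have h2 := two _ a2.rx
    have h3 := Nat.mul_le_mul (two _ a2.ry) (two _ a2.rxy)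
    rw [Subgroup.index_eq_card]
    omega

/-- **The parabolic case for root group data.** -/
theorem good (hI : (∀ i j, M i j ≠ 3) → ∃ i, Irr p T (X (sr i)) ∧
    ∀ j, j ≠ i → Irr p T (X (sr j)) ∨ ¬ Group.IsSolvable (LJ cs h T X {i})) : Good (InnG Y) S := by
  rcases (C.orb R).op_cases cs h (op_op cs (simple_inj h)) (matrix_op (cs := cs)) with hJ | ⟨o, ho, ho', hall⟩
  · refine C.good_of_op R hJ ?_
    obtain ⟨o, ho⟩ := C.ne
    by_cases h3 : ∃ k, M k o = 3
    · obtain ⟨k, hk⟩ := h3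
      exact ⟨o, ho, irr_of_three R hk⟩
    · push Not at h3
      have h3' : ∀ k, M o k ≠ 3 := fun k => by rw [M.symmetric]; exact h3 k
      obtain ⟨b, hb⟩ := (C.orb R).two_of_no_three cs h ho h3'
      obtain ⟨i, hi, hi'⟩ := hI (by
        intro i j
        rcases hb i with rfl | rfl
        · exact h3' j
        · rcases hb j with rfl | rfl
          · exact h3 i
          · rw [M.diagonal]; omega)
      by_cases hiJ : i ∈ J
      · exact ⟨o, ho, (hi' o fun e => ho (e ▸ hiJ)).resolve_right (not_not.2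
          (C.solvable ((LJ_mono (Set.singleton_subset_iff.2 hiJ)).trans LJ_le_PJ)))⟩
      · exact ⟨i, hiJ, hi⟩
  · refine C.good_of_plane R ho ho' hall ?_
    have hne : o ≠ op cs o := fun e => ho (e ▸ ho')
    obtain ⟨o', ho'', hadj⟩ := (C.orb R).exists_adj ho'
    obtain rfl : o' = o := (hall o').resolve_right fun e => ho'' (e ▸ ho')
    have h1 := cartan_op (cs := cs) h o' (op cs o')
    rw [op_op cs (simple_inj h)] at h1
    have h2 := hadj.2
    rw [M.symmetric] at h2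
    rcases h.rel o' (op cs o') hne with ⟨h3, -⟩ | ⟨h3, -⟩ | ⟨-, h3 | h3⟩ | ⟨-, h3 | h3⟩
    exacts [absurd h3 h2, h3, by omega, by omega, by omega, by omega]

end Ctx

end Cfsg.Agent.SB.Par
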